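import Groth.Agent.FunFldLib.Hasse.Basic
import Mathlib.FieldTheory.IntermediateField.Adjoin.Algebra

/-! The zero fibre of an element of a function field. -/

set_option autoImplicit false

open WithZero Polynomial

namespace Groth.Agent.FunFldLib.Fibre

open FunFld Groth.Agent.FunFldLib

variable {k K : Type*} [Field k] [Field K] [Algebra k K]

/-- integral at every zero of `w` -/
def Int (k : Type*) {K : Type*} [Field k] [Field K] [Algebra k K] (w z : K) : Prop :=
  ∀ Q : Place k K, 0 < Q.ord w → Q.1 z ≤ 1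

variable {w : K}

theorem Int.add {a b : K} (ha : Int k w a) (hb : Int k w b) : Int k w (a + b) := fun Q hQ =>
  (Q.1.map_add _ _).trans (max_le (ha Q hQ) (hb Q hQ))

theorem Int.mul {a b : K} (ha : Int k w a) (hb : Int k w b) : Int k w (a * b) := fun Q hQ => by
  rw [map_mul]; exact mul_le_one' (ha Q hQ) (hb Q hQ)

theorem Int.neg {a : K} (ha : Int k w a) : Int k w (-a) := fun Q hQ => by
  rw [Valuation.map_neg]; exact ha Q hQ

theorem Int.sub {a b : K} (ha : Int k w a) (hb : Int k w b) : Int k w (a - b) := fun Q hQ =>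
  (Q.1.map_sub _ _).trans (max_le (ha Q hQ) (hb Q hQ))

theorem Int.const (c : k) : Int k w (algebraMap k K c) := fun Q _ => Q.2.1 c

theorem Int.zero : Int k w (0 : K) := fun Q _ => by simp

theorem Int.one : Int k w (1 : K) := fun Q _ => by simp

theorem Int.sum {ι : Type*} (s : Finset ι) (f : ι → K) (h : ∀ i ∈ s, Int k w (f i)) : Int k w (∑ i ∈ s, f i) :=
  fun Q hQ => Valuation.map_sum_le _ fun i hi => h i hi Q hQ

theorem Int.pow {a : K} (ha : Int k w a) (m : ℕ) : Int k w (a ^ m) := fun Q hQ => by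
  rw [map_pow]; exact pow_le_one' (ha Q hQ) m

theorem v_w {Q : Place k K} (hQ : 0 < Q.ord w) : Q.1 w = exp (-Q.ord w) :=
  v_eq_exp Q fun h => by simp [h, Place.ord] at hQ

theorem v_w_lt {Q : Place k K} (hQ : 0 < Q.ord w) : Q.1 w < 1 := by
  rw [v_w hQ, ← exp_zero, exp_lt_exp]; omega

theorem Int.self : Int k w w := fun _ hQ => (v_w_lt hQ).le

theorem Int.poly (p : k[X]) : Int k w (aeval w p) := fun Q hQ => v_aeval_le Q (v_w_lt hQ).le p

theorem v_unit {p : k[X]} (hp : p.eval 0 ≠ 0) {Q : Place k K} (hQ : 0 < Q.ord w) : Q.1 (aeval w p) = 1 := by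
  have h := Polynomial.X_mul_divX_add p
  rw [← coeff_zero_eq_eval_zero] at hp
  rw [← h, map_add, map_mul, aeval_X, aeval_C, Valuation.map_add_eq_of_lt_right _ ?_, v_algebraMap Q hp]
  rw [v_algebraMap Q hp, map_mul]
  exact (mul_le_mul' le_rfl (v_aeval_le Q (v_w_lt hQ).le _)).trans_lt (by rw [mul_one]; exact v_w_lt hQ)

variable (hw : Transcendental k w)
include hw

theorem aeval_ne_zero {p : k[X]} (hp : p ≠ 0) : aeval w p ≠ 0 := fun h => hp (transcendental_iff.1 hw p h)

/-- normal form of an element of `k(w)` -/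
theorem normal_form {a : K} (ha : a ∈ IntermediateField.adjoin k ({w} : Set K)) (ha0 : a ≠ 0) :
    ∃ (i j : ℕ) (p q : k[X]), p.eval 0 ≠ 0 ∧ q.eval 0 ≠ 0 ∧ a = w ^ i * aeval w p / (w ^ j * aeval w q) := by
  obtain ⟨r, s, rfl⟩ := (IntermediateField.mem_adjoin_simple_iff _ _).1 ha
  have hs : s ≠ 0 := fun h => ha0 (by rw [h, map_zero, div_zero])
  have hr : r ≠ 0 := fun h => ha0 (by rw [h, map_zero, zero_div])
  obtain ⟨p, hp1, hp2⟩ := Polynomial.exists_eq_pow_rootMultiplicity_mul_and_not_dvd r hr 0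
  obtain ⟨q, hq1, hq2⟩ := Polynomial.exists_eq_pow_rootMultiplicity_mul_and_not_dvd s hs 0
  rw [map_zero, sub_zero] at hp1 hp2 hq1 hq2
  refine ⟨r.rootMultiplicity 0, s.rootMultiplicity 0, p, q, fun h => hp2 ?_, fun h => hq2 ?_, ?_⟩
  · rwa [X_dvd_iff, coeff_zero_eq_eval_zero]
  · rwa [X_dvd_iff, coeff_zero_eq_eval_zero]
  · conv_lhs => rw [hp1, hq1]
    simp only [map_mul, map_pow, aeval_X]

theorem v_mem {a : K} (ha : a ∈ IntermediateField.adjoin k ({w} : Set K)) (ha0 : a ≠ 0) :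
    ∃ m : ℤ, ∀ Q : Place k K, 0 < Q.ord w → Q.1 a = exp (-(m * Q.ord w)) := by
  obtain ⟨i, j, p, q, hp, hq, rfl⟩ := normal_form hw ha ha0
  refine ⟨(i : ℤ) - j, fun Q hQ => ?_⟩
  rw [map_div₀, map_mul, map_mul, v_unit hp hQ, v_unit hq hQ, mul_one, mul_one, map_pow, map_pow, v_w hQ,
    ← exp_nsmul, ← exp_nsmul, ← exp_sub, nsmul_eq_mul, nsmul_eq_mul]
  ring_nf

theorem int_of_int_at {a : K} (ha : a ∈ IntermediateField.adjoin k ({w} : Set K)) {Q : Place k K}
    (hQ : 0 < Q.ord w) (h : Q.1 a ≤ 1) : Int k w a := by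
  rcases eq_or_ne a 0 with rfl | ha0
  · exact Int.zero
  obtain ⟨m, hm⟩ := v_mem hw ha ha0
  intro R hR
  rw [hm R hR, ← exp_zero, exp_le_exp]
  rw [hm Q hQ, ← exp_zero, exp_le_exp] at h
  have : 0 ≤ m := by
    by_contra hneg
    have := mul_neg_of_neg_of_pos (not_le.1 hneg) hQ
    omega
  have := mul_nonneg this hR.le
  omega

theorem int_form (hne : ∃ Q : Place k K, 0 < Q.ord w) {a : K}
    (ha : a ∈ IntermediateField.adjoin k ({w} : Set K)) (hi : Int k w a) :
    ∃ N q : k[X], q.eval 0 ≠ 0 ∧ a = aeval w N / aeval w q := by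
  rcases eq_or_ne a 0 with rfl | ha0
  · exact ⟨0, 1, by simp, by simp⟩
  obtain ⟨i, j, p, q, hp, hq, rfl⟩ := normal_form hw ha ha0
  obtain ⟨Q, hQ⟩ := hne
  have h := hi Q hQ
  rw [map_div₀, map_mul, map_mul, v_unit hp hQ, v_unit hq hQ, mul_one, mul_one, map_pow, map_pow, v_w hQ,
    ← exp_nsmul, ← exp_nsmul, ← exp_sub, nsmul_eq_mul, nsmul_eq_mul, ← exp_zero, exp_le_exp] at h
  have hji : j ≤ i := by
    by_contra hlt
    have h2 : (i : ℤ) * Q.ord w < (j : ℤ) * Q.ord w :=
      mul_lt_mul_of_pos_right (by exact_mod_cast (not_le.1 hlt)) hQ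
    push_cast at h
    linarith
  refine ⟨X ^ (i - j) * p, q, hq, ?_⟩
  have hw0 : w ≠ 0 := fun h => hw (h ▸ isAlgebraic_zero)
  rw [map_mul, map_pow, aeval_X, ← Nat.add_sub_cancel' hji, pow_add, mul_assoc, Nat.add_sub_cancel_left,
    mul_div_mul_left _ _ (pow_ne_zero _ hw0)]

omit hw in
theorem mem_poly (p : k[X]) : aeval w p ∈ IntermediateField.adjoin k ({w} : Set K) :=
  IntermediateField.algebra_adjoin_le_adjoin _ _ (Polynomial.aeval_mem_adjoin_singleton _ _)

omit hw in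
theorem int_div (N : k[X]) {q : k[X]} (hq : q.eval 0 ≠ 0) : Int k w (aeval w N / aeval w q) := fun Q hQ => by
  rw [map_div₀, v_unit hq hQ, div_one]
  exact v_aeval_le Q (v_w_lt hQ).le N

/-- an integral element is a constant plus a multiple of `w` -/
theorem int_split (hne : ∃ Q : Place k K, 0 < Q.ord w) {a : K}
    (ha : a ∈ IntermediateField.adjoin k ({w} : Set K)) (hi : Int k w a) :
    ∃ (c : k) (g : K), g ∈ IntermediateField.adjoin k ({w} : Set K) ∧ Int k w g ∧ a = algebraMap k K c + w * g := by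
  obtain ⟨N, q, hq, rfl⟩ := int_form hw hne ha hi
  set c := N.eval 0 / q.eval 0 with hc
  obtain ⟨N', hN'⟩ : X ∣ N - C c * q := by
    rw [X_dvd_iff, coeff_zero_eq_eval_zero, eval_sub, eval_mul, eval_C, hc, div_mul_cancel₀ _ hq, sub_self]
  refine ⟨c, aeval w N' / aeval w q, div_mem (mem_poly _) (mem_poly _), int_div N' hq, ?_⟩
  have hq' : aeval w q ≠ 0 := aeval_ne_zero hw (fun h => hq (by rw [h, eval_zero]))
  have h := congrArg (aeval w) hN'
  rw [map_sub, map_mul, map_mul, aeval_C, aeval_X] at h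
  field_simp
  linear_combination h

omit hw in
theorem deriv_poly (δ : Derivation k K K) (N : k[X]) : δ (aeval w N) = aeval w (derivative N) * δ w := by
  rw [δ.map_aeval, smul_eq_mul]

/-- derivations of integral elements of `k(w)` -/
theorem int_deriv (hne : ∃ Q : Place k K, 0 < Q.ord w) {a : K}
    (ha : a ∈ IntermediateField.adjoin k ({w} : Set K)) (hi : Int k w a) :
    ∃ h : K, Int k w h ∧ ∀ δ : Derivation k K K, δ a = h * δ w := by
  obtain ⟨N, q, hq, rfl⟩ := int_form hw hne ha hi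
  have hq' : aeval w q ≠ 0 := aeval_ne_zero hw (fun h => hq (by rw [h, eval_zero]))
  refine ⟨aeval w (derivative N * q - N * derivative q) / aeval w (q * q), int_div _ (by rw [eval_mul]; exact mul_ne_zero hq hq), fun δ => ?_⟩
  rw [δ.leibniz_div, smul_eq_mul, smul_eq_mul, smul_eq_mul, deriv_poly, deriv_poly]
  simp only [map_sub, map_mul]
  field_simp

end Groth.Agent.FunFldLib.Fibre
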