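import Groth.Agent.FunFldLib.Fibre.Line
import Groth.Agent.FunFldLib.Hasse.Weier
import Mathlib.RingTheory.Polynomial.Basic
import Mathlib.LinearAlgebra.Dimension.StrongRankCondition

/-! The degree of the divisor of a differential. -/

set_option autoImplicit false

open WithZero Polynomial
open scoped Classical
open LocRes (hasseD IsHasseFamily IsExpansionAt)

namespace Groth.Agent.FunFldLib.Fibre

open FunFld Groth.Agent.FunFldLib

variable {k K : Type*} [Field k] [Field K] [Algebra k K]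

local notation "Fw" w => IntermediateField.adjoin k ({w} : Set K)

theorem finrank_boxes {n : ℕ} (e : Fin n → ℕ) :
    Module.finrank k (∀ i, Polynomial.degreeLT k (e i)) = ∑ i, e i := by
  have : ∀ i, Module.Finite k (Polynomial.degreeLT k (e i)) := fun i =>
    Module.Finite.equiv (Polynomial.degreeLTEquiv k (e i)).symm
  rw [Module.finrank_pi_fintype]
  exact Finset.sum_congr rfl fun i _ => by
    rw [(Polynomial.degreeLTEquiv k (e i)).finrank_eq, Module.finrank_fin_fun]

theorem mem_degreeLT_succ {p : k[X]} {a : ℕ} : p ∈ Polynomial.degreeLT k (a + 1) ↔ p.natDegree ≤ a := by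
  rw [Polynomial.mem_degreeLT]
  constructor
  · intro h
    rcases eq_or_ne p 0 with rfl | hp
    · simp
    · exact Nat.lt_succ_iff.1 ((natDegree_lt_iff_degree_lt hp).2 h)
  · intro h
    exact (degree_le_of_natDegree_le h).trans_lt (by exact_mod_cast Nat.lt_succ_self a)

/-- boxes of polynomial coefficients are a space of functions -/
theorem ell_boxes [IsAlgClosed k] {x : K} (hx : Transcendental k x) {n : ℕ} (u : Fin n → K)
    (hli : LinearIndependent (Fw x) u) (e : Fin n → ℕ) (L : Submodule k K)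
    (hmem : ∀ p : Fin n → k[X], (∀ i, (p i).natDegree ≤ e i) → ∑ i, aeval x (p i) * u i ∈ L)
    (hsur : ∀ z ∈ L, ∃ p : Fin n → k[X], (∀ i, (p i).natDegree ≤ e i) ∧ z = ∑ i, aeval x (p i) * u i) :
    Module.finrank k L = ∑ i, (e i + 1) := by
  let f : (∀ i, Polynomial.degreeLT k (e i + 1)) →ₗ[k] K :=
    { toFun := fun p => ∑ i, aeval x (p i : k[X]) * u i
      map_add' := fun p q => by simp [add_mul, Finset.sum_add_distrib]
      map_smul' := fun c p => by simp [Finset.smul_sum] }
  have hinj : Function.Injective f := by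
    rw [← LinearMap.ker_eq_bot, Submodule.eq_bot_iff]
    intro p hp
    have h1 : ∑ i, (⟨aeval x (p i : k[X]), poly_mem x _⟩ : Fw x) • u i = 0 := hp
    have h2 := Fintype.linearIndependent_iff.1 hli _ h1
    funext i
    have h3 : aeval x (p i : k[X]) = 0 := congrArg Subtype.val (h2 i)
    exact Subtype.ext (transcendental_iff.1 hx _ h3)
  have hrange : LinearMap.range f = L := by
    apply le_antisymm
    · rintro _ ⟨p, rfl⟩
      exact hmem (fun i => (p i : k[X])) fun i => mem_degreeLT_succ.1 (p i).2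
    · intro z hz
      obtain ⟨p, hp, rfl⟩ := hsur z hz
      exact ⟨fun i => ⟨p i, mem_degreeLT_succ.2 (hp i)⟩, rfl⟩
  rw [← hrange, LinearMap.finrank_range_of_inj hinj, finrank_boxes]

variable [IsAlgClosed k] (hK : IsFunctionField k K)
variable {s : K} {H : K →ₐ[k] PowerSeries K} (hH : IsHasseFamily s H)
include hK hH

theorem deg_diff (Φ : Place k K → (K →ₐ[k] LaurentSeries k))
    (hΦ : ∀ P : Place k K, IsExpansionAt P.1 (Φ P)) :
    (divDiff Φ 1 s).deg = 2 * (genus k K : ℤ) - 2 := by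
  set g := genus k K with hg
  -- a function with simple poles only
  obtain ⟨T, -, hTcard⟩ := (infinite_places hK).exists_subset_card_eq (2 * g + 2)
  set D : Divisor k K := ∑ Q ∈ T, Finsupp.single Q 1 with hDdef
  have hD : ∀ Q, D Q = if Q ∈ T then 1 else 0 := fun Q => by simp [hDdef, Finsupp.single_apply]
  have hDd : D.deg = (T.card : ℤ) := by
    rw [hDdef]; clear hTcard hD hDdef D
    induction T using Finset.induction_on with
    | empty => simp [deg_zero]
    | insert a S ha ih => rw [Finset.sum_insert ha, deg_add, deg_single, deg_eq_one hK a, ih]; simp [ha]; ring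
  obtain ⟨x, hxL, hxT⟩ := exists_exact hK (E := D) T fun Q hQ => by
    by_contra hcon
    push Not at hcon
    have := finite_L hK.1 (D - Finsupp.single Q 1)
    have h1 : ell D ≤ ell (D - Finsupp.single Q 1) := Submodule.finrank_mono (show FunFld.L D ≤ _ from hcon)
    have h2 := ell_eq_of_large hK (D := D) (by rw [hDd, hTcard]; push_cast; omega)
    have h3 := ell_eq_of_large hK (D := D - Finsupp.single Q 1) (by
      rw [deg_sub, deg_single, deg_eq_one hK Q, hDd, hTcard]; push_cast; omega)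
    rw [deg_sub, deg_single, deg_eq_one hK Q] at h3
    push_cast at h3
    omega
  have hTne : T.Nonempty := Finset.card_pos.1 (by omega)
  obtain ⟨Q0, hQ0⟩ := hTne
  obtain ⟨hx0, hxQ0⟩ := ord_eq_of_exact hK hxL (hxT Q0 hQ0)
  have hT1 : ∀ Q ∈ T, Q.ord x = -1 := fun Q hQ => by
    rw [(ord_eq_of_exact hK hxL (hxT Q hQ)).2, hD, if_pos hQ]
  have hT : ∀ Q, Q ∈ T ↔ Q.ord x < 0 := fun Q => by
    refine ⟨fun h => by rw [hT1 Q h]; omega, fun h => by_contra fun hQ => ?_⟩
    have h1 := hxL Q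
    rw [hD, if_neg hQ, exp_zero, v_le_one_iff Q hx0] at h1
    omega
  have hx : Transcendental k x := fun halg => by
    have := ord_of_algebraic Q0 halg
    rw [hT1 Q0 hQ0] at this
    omega
  set w := x⁻¹ with hw
  have hwt : Transcendental k w := transcendental_inv hK.1 hx
  have hvw : ∀ Q ∈ T, Q.1 w = exp (-1) := fun Q hQ => by
    rw [hw, map_inv₀, v_x hT1 hQ, ← exp_neg]
  have hzw : ∀ Q : Place k K, 0 < Q.ord w ↔ Q ∈ T := fun Q => inv_zero_iff hT
  have hsw : hasseD H 1 w ≠ 0 := deriv_param_ne_zero hK Q0 (hvw Q0 hQ0) hH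
  have hδinv : ∀ δ : Derivation k K K, δ x = -(x ^ 2 * δ w) := by
    intro δ
    have h := congrArg δ (mul_inv_cancel₀ hx0)
    rw [δ.leibniz, δ.map_one_eq_zero, smul_eq_mul, smul_eq_mul] at h
    have h2 := congrArg (x * ·) h
    simp only [mul_add, mul_zero, ← mul_assoc, mul_inv_cancel₀ hx0, one_mul] at h2
    rw [hw]
    linear_combination h2
  have hsx : hasseD H 1 x ≠ 0 := by
    rw [← Hasse.deriv_apply hH, hδinv, Hasse.deriv_apply]
    exact neg_ne_zero.2 (mul_ne_zero (pow_ne_zero _ hx0) hsw)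
  have hshift : ∀ (c : k), hasseD H 1 (x - algebraMap k K c) = hasseD H 1 x := fun c => by
    rw [Hasse.hD_sub, Hasse.hD_algebraMap, if_neg one_ne_zero, sub_zero]
  set Δ : Divisor k K := divDiff Φ 1 s + FunFld.div k (hasseD H 1 x) + (2 : ℤ) • D with hΔ
  -- the coefficient of Δ
  have hord : ∀ (Q : Place k K) (t : K), Q.1 t = exp (-1) → ∀ Ht : K →ₐ[k] PowerSeries K,
      IsHasseFamily t Ht → hasseD Ht 1 x ≠ 0 ∧ Δ Q = Q.ord (hasseD Ht 1 x) + 2 * D Q := by
    intro Q t ht Ht hHt
    obtain ⟨ρ, -, h1, -, h2, hc⟩ := change_var hK hH hHt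
    have e : hasseD Ht 1 x = hasseD Ht 1 s * hasseD H 1 x := by
      rw [hc x 1, Finset.sum_range_succ, Finset.sum_range_one, pow_zero, PowerSeries.coeff_one, if_neg one_ne_zero,
        mul_zero, zero_add, pow_one, h2, mul_comm]
    have hd : hasseD Ht 1 s ≠ 0 := h2 ▸ h1
    refine ⟨e ▸ mul_ne_zero hd hsx, ?_⟩
    rw [e, ord_mul Q hd hsx, hΔ, divDiff, dif_pos (finite_divDiff hK hH hΦ)]
    simp only [Finsupp.add_apply, Finsupp.smul_apply, div_apply hK.1, Finsupp.ofSupportFinite_coe, smul_eq_mul,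
      ordDiff_eq hK Q ht hHt (Φ Q) (hΦ Q)]
  have hw1 : ∀ Q ∈ T, ∀ Ht : K →ₐ[k] PowerSeries K, ∀ t, Q.1 t = exp (-1) → IsHasseFamily t Ht →
      Q.1 (hasseD Ht 1 w) = 1 := by
    intro Q hQ Ht t ht hHt
    obtain ⟨ρ, -, -, Hw, hHw, -⟩ := exists_family hK Q (hvw Q hQ) hH
    rw [v_deriv_indep hK hH Q ht (hvw Q hQ) hHt hHw, LocRes.hasseD_apply, hHw.1, map_add, PowerSeries.coeff_C,
      PowerSeries.coeff_one_X]
    simp
  have hΔT : ∀ Q ∈ T, Δ Q = 0 := by
    intro Q hQ
    obtain ⟨t, -, ht⟩ := exists_exp (P := Q) (-1)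
    obtain ⟨ρ, -, -, Ht, hHt, -⟩ := exists_family hK Q ht hH
    rw [(hord Q t ht Ht hHt).2, hD, if_pos hQ]
    have : Q.1 (hasseD Ht 1 x) = exp 2 := by
      rw [← Hasse.deriv_apply hHt, hδinv, Hasse.deriv_apply, Valuation.map_neg, map_mul, map_pow, v_x hT1 hQ,
        hw1 Q hQ Ht t ht hHt, mul_one, ← exp_nsmul]
      simp
    rw [Place.ord, this, log_exp]; ring
  have hreg : ∀ (Q : Place k K), Q ∉ T → ∀ z : K, ∀ c : k, 0 < Q.ord (x - algebraMap k K c) →
      (Q.1 z ≤ exp (Δ Q) ↔ ∀ t, Q.1 t = exp (-1) → ∀ Ht : K →ₐ[k] PowerSeries K, IsHasseFamily t Ht →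
        Q.1 (z * hasseD Ht 1 (x - algebraMap k K c)) ≤ 1) := by
    intro Q hQ z c hc
    have key : ∀ t, Q.1 t = exp (-1) → ∀ Ht : K →ₐ[k] PowerSeries K, IsHasseFamily t Ht →
        (Q.1 (z * hasseD Ht 1 (x - algebraMap k K c)) ≤ 1 ↔ Q.1 z ≤ exp (Δ Q)) := by
      intro t ht Ht hHt
      obtain ⟨h0, h1⟩ := hord Q t ht Ht hHt
      rw [hD, if_neg hQ, mul_zero, add_zero] at h1
      rw [Hasse.hD_sub, Hasse.hD_algebraMap, if_neg one_ne_zero, sub_zero, map_mul, h1, v_eq_exp Q h0,
        exp_neg, mul_inv_le_iff₀ (zero_lt_iff.2 exp_ne_zero), one_mul]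
    refine ⟨fun h t ht Ht hHt => (key t ht Ht hHt).2 h, fun h => ?_⟩
    obtain ⟨t, -, ht⟩ := exists_exp (P := Q) (-1)
    obtain ⟨ρ, -, -, Ht, hHt, -⟩ := exists_family hK Q ht hH
    exact (key t ht Ht hHt).1 (h t ht Ht hHt)
  -- the lattice
  obtain ⟨n, b, d, hn, hb, hres, hgen⟩ := exists_lattice hK hx hT hT1 hD
  have hbT : ∀ i, ∀ Q ∈ T, Q.1 (b i) ≤ exp (d i : ℤ) := fun i => ((mem_L_nsmul hK hD).1 (hb i)).1
  have hbA : ∀ i, ∀ Q, Q ∉ T → Q.1 (b i) ≤ 1 := fun i => ((mem_L_nsmul hK hD).1 (hb i)).2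
  have hxA : ∀ Q, Q ∉ T → Q.1 x ≤ 1 := fun Q hQ => (v_le_one_iff Q hx0).2 (not_lt.1 fun h => hQ ((hT Q).2 h))
  have hnotT : ∀ (Q : Place k K) (c : k), 0 < Q.ord (x - algebraMap k K c) → Q ∉ T := by
    intro Q c hc hQ
    have h1 : Q.1 x ≤ 1 := by
      rw [show x = (x - algebraMap k K c) + algebraMap k K c by ring]
      exact (Q.1.map_add _ _).trans (max_le (v_w_lt hc).le (Q.2.1 c))
    rw [v_x hT1 hQ, ← exp_zero, exp_le_exp] at h1
    omega
  have hu : ∀ i, Int k w (w ^ d i * b i) := fun i Q hQ => by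
    rw [map_mul, map_pow, hvw Q ((hzw Q).1 hQ)]
    refine (mul_le_mul' le_rfl (hbT i Q ((hzw Q).1 hQ))).trans_eq ?_
    rw [← exp_nsmul, ← exp_add, nsmul_eq_mul]; simp
  obtain ⟨hliu, hcoordu⟩ := basis_of_res hK hwt (fun i => w ^ d i * b i) hu hres (by rw [hw, adjoin_inv]; exact hn)
  have : FiniteDimensional (Fw x) K := finite_over hK.1 hx
  have hli : LinearIndependent (Fw x) b := by
    rw [Fintype.linearIndependent_iff]
    intro a ha i
    have hmem : ∀ i, (a i : K) * x ^ d i ∈ Fw w := fun i => by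
      rw [hw, adjoin_inv]
      exact mul_mem (a i).2 (pow_mem (IntermediateField.mem_adjoin_simple_self k x) _)
    have h1 := Fintype.linearIndependent_iff.1 hliu (fun i => ⟨(a i : K) * x ^ d i, hmem i⟩) (by
      rw [← ha]
      refine Finset.sum_congr rfl fun i _ => ?_
      show (a i : K) * x ^ d i * (w ^ d i * b i) = (a i : K) * b i
      rw [mul_assoc, ← mul_assoc (x ^ d i), ← mul_pow, hw, mul_inv_cancel₀ hx0, one_pow, one_mul]) i
    have h2 : (a i : K) * x ^ d i = 0 := congrArg Subtype.val h1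
    exact Subtype.ext ((mul_eq_zero.1 h2).resolve_right (pow_ne_zero _ hx0))
  have : Nonempty (Fin n) := ⟨⟨0, by rw [hn]; exact Module.finrank_pos⟩⟩
  let B := basisOfLinearIndependentOfCardEqFinrank hli (by rw [Fintype.card_fin, hn])
  have hB : ⇑B = b := coe_basisOfLinearIndependentOfCardEqFinrank _ _
  obtain ⟨-, -, -, -, -, -, -, hsep, -⟩ := exists_local hK hwt hH hsw
  have : Algebra.IsSeparable (Fw x) K := by
    have e : (Fw w) = Fw x := adjoin_inv x
    exact e ▸ hsep
  let B' := B.traceDual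
  have hdual : ∀ i j, Tr k x (B' i * b j) = if j = i then 1 else 0 := fun i j => by
    have h := (B.traceDual_eq_iff.1 rfl) i j
    rw [Algebra.traceForm_apply, hB] at h
    show ((Algebra.trace (Fw x) K (B' i * b j) : Fw x) : K) = _
    rw [show B' i = B.traceDual i from rfl, h]
    split_ifs <;> simp
  have hexp : ∀ z : K, z = ∑ i, Tr k x (z * b i) * B' i := by
    intro z
    conv_lhs => rw [← B'.sum_repr z]
    refine Finset.sum_congr rfl fun i _ => ?_
    rw [IntermediateField.smul_def, smul_eq_mul]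
    congr 1
    have e : Tr k x (z * b i) = Tr k x (∑ l, ((B'.repr z l : Fw x) : K) * (B' l * b i)) := by
      congr 1
      conv_lhs => rw [← B'.sum_repr z]
      rw [Finset.sum_mul]
      exact Finset.sum_congr rfl fun l _ => by rw [IntermediateField.smul_def, smul_eq_mul, mul_assoc]
    rw [e, Tr_sum, Finset.sum_eq_single i]
    · rw [Tr_mul (B'.repr z i).2, hdual, if_pos rfl, mul_one]
    · intro l _ hl; rw [Tr_mul (B'.repr z l).2, hdual, if_neg (Ne.symm hl), mul_zero]
    · simp
  have hcomb : ∀ (a : Fin n → K), (∀ i, a i ∈ Fw x) → ∀ j, Tr k x (B' j * ∑ i, a i * b i) = a j := by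
    intro a ha j
    rw [Finset.mul_sum, Tr_sum, Finset.sum_eq_single j]
    · rw [show B' j * (a j * b j) = a j * (B' j * b j) by ring, Tr_mul (ha j), hdual, if_pos rfl, mul_one]
    · intro l _ hl
      rw [show B' j * (a l * b l) = a l * (B' j * b l) by ring, Tr_mul (ha l), hdual, if_neg hl, mul_zero]
    · simp
  -- the dual generators away from infinity
  have hfin : ∀ (j : Fin n) (c : k), Reg k (x - algebraMap k K c) (B' j) := by
    intro j c
    rw [← trace_dual hK (trans_shift hx c) hH (by rw [hshift]; exact hsx)]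
    intro u hu
    obtain ⟨h, hhne, hhu⟩ : ∃ h : k[X], h.eval c ≠ 0 ∧ ∀ Q, Q ∉ T → Q.1 (aeval x h * u) ≤ 1 := by
      set S := ((finite_poles hK u).toFinset).filter fun R => R ∉ T with hS
      choose v hv using fun (R : Place k K) (hR : R ∈ S) =>
        exists_value hK hx (show ¬ R.ord x < 0 from fun h => (Finset.mem_filter.1 hR).2 ((hT R).2 h))
      choose N hN using fun R : Place k K => exists_le_exp_nat (R.1 u)
      refine ⟨∏ R ∈ S.attach, (X - C (v R.1 R.2)) ^ N R.1, ?_, fun Q hQ => ?_⟩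
      · rw [eval_prod]
        refine Finset.prod_ne_zero_iff.2 fun R _ => ?_
        rw [eval_pow, eval_sub, eval_X, eval_C]
        refine pow_ne_zero _ (sub_ne_zero.2 fun h => ?_)
        have := hu R.1 (by rw [h]; exact hv R.1 R.2)
        exact (finite_poles hK u).mem_toFinset.1 (Finset.mem_filter.1 R.2).1 this
      · by_cases hQS : Q ∈ S
        · rw [map_mul, map_prod, map_prod, ← Finset.mul_prod_erase _ _ (Finset.mem_attach S ⟨Q, hQS⟩)]
          have h1 : Q.1 (aeval x ((X - C (v Q hQS)) ^ N Q)) ≤ exp (-(N Q : ℤ)) := by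
            rw [map_pow, map_pow, map_sub, aeval_X, aeval_C]
            exact (pow_le_pow_left' ((lt_one_iff_le _).1 (v_w_lt (hv Q hQS))) _).trans_eq (by rw [← exp_nsmul]; simp)
          refine (mul_le_mul' (mul_le_mul' h1 (Finset.prod_le_one' fun R _ => v_aeval_le Q (hxA Q hQ) _)) (hN Q)).trans_eq ?_
          rw [mul_one, ← exp_add]; simp
        · rw [map_mul]
          refine mul_le_one' (v_aeval_le Q (hxA Q hQ) _) (not_not.1 fun hne => hQS ?_)
          exact Finset.mem_filter.2 ⟨(finite_poles hK u).mem_toFinset.2 hne, hQ⟩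
    obtain ⟨M, hM⟩ : ∃ M : ℕ, ∀ Q ∈ T, Q.1 (aeval x h * u) ≤ exp (M : ℤ) := by
      choose f hf using fun Q : Place k K => exists_le_exp_nat (Q.1 (aeval x h * u))
      exact ⟨T.sup f, fun Q hQ => (hf Q).trans (exp_le_exp.2 (by exact_mod_cast Finset.le_sup hQ))⟩
    obtain ⟨p, hp⟩ := hgen M _ ((mem_L_nsmul hK hD).2 ⟨hM, hhu⟩)
    have hh0 : aeval x h ≠ 0 := fun h0 => hhne (by rw [transcendental_iff.1 hx _ h0, eval_zero])
    have he : u = ∑ i, (aeval x (p i) / aeval x h) * b i := by
      rw [← mul_div_cancel_left₀ u hh0, hp, Finset.sum_div]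
      exact Finset.sum_congr rfl fun i _ => by ring
    show Int k (x - algebraMap k K c) (Tr k (x - algebraMap k K c) (B' j * u))
    rw [Tr_congr (adjoin_shift x c), he, hcomb _ fun i => div_mem (poly_mem x _) (poly_mem x _)]
    intro Q hQ
    rw [map_div₀, v_aeval_at hQ hhne, div_one]
    exact v_aeval_le Q (hxA Q (hnotT Q c hQ)) _
  -- and at infinity
  have hinf : ∀ (j : Fin n), ∀ Q ∈ T, Q.1 (x ^ d j * B' j) ≤ 1 := by
    intro j Q hQ
    have hR : Reg k w (x ^ d j * B' j) := by
      rw [← trace_dual hK hwt hH hsw]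
      intro u huI
      obtain ⟨a, ha, he⟩ := hcoordu u huI
      show Int k w (Tr k w (x ^ d j * B' j * u))
      rw [Tr_congr (adjoin_inv x), mul_assoc, Tr_mul (pow_mem (IntermediateField.mem_adjoin_simple_self k x) _), he]
      have hmem : ∀ i, (a i : K) * w ^ d i ∈ Fw x := fun i => by
        have h1 : (a i : K) ∈ Fw x := by rw [← adjoin_inv]; exact (a i).2
        exact mul_mem h1 (pow_mem (by rw [hw]; exact inv_mem (IntermediateField.mem_adjoin_simple_self k x)) _)
      rw [show ∑ i, (a i : K) * (w ^ d i * b i) = ∑ i, ((a i : K) * w ^ d i) * b i from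
        Finset.sum_congr rfl fun i _ => (mul_assoc _ _ _).symm, hcomb _ hmem, mul_left_comm, ← mul_pow,
        show x * w = 1 from mul_inv_cancel₀ hx0, one_pow, mul_one]
      exact ha j
    obtain ⟨ρ, -, -, Hw, hHw, -⟩ := exists_family hK Q (hvw Q hQ) hH
    have h1 := hR Q ((hzw Q).2 hQ) w (hvw Q hQ) Hw hHw
    rwa [map_mul, hw1 Q hQ Hw w (hvw Q hQ) hHw, mul_one] at h1
  have hliB : LinearIndependent (Fw x) (fun i => B' i) := B'.linearIndependent
  set d' := Finset.univ.sup d
  set m := d' + 2 * g + 2 with hm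
  have hdm : ∀ i, d i ≤ m := fun i => (Finset.le_sup (Finset.mem_univ i)).trans (by omega)
  -- the two spaces
  have h1 : ell ((m : ℤ) • D) = ∑ i, (m - d i + 1) := by
    refine ell_boxes hx b hli _ _ (fun p hp => sum_mem fun i _ => (mem_L_nsmul hK hD).2 ⟨fun Q hQ => ?_, fun Q hQ => ?_⟩)
      fun z hz => ?_
    · rw [map_mul]
      rcases eq_or_ne (p i) 0 with h0 | h0
      · simp [h0]
      · rw [v_aeval_inf (hT1 Q hQ) h0]
        refine (mul_le_mul' le_rfl (hbT i Q hQ)).trans ?_
        rw [← exp_add, exp_le_exp]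
        have := hp i; have := hdm i; omega
    · rw [map_mul]; exact mul_le_one' (v_aeval_le Q (hxA Q hQ) _) (hbA i Q hQ)
    · obtain ⟨p, hp⟩ := hgen m z hz
      refine ⟨p, fun i => ?_, hp⟩
      rcases eq_or_ne (p i) 0 with h0 | h0
      · simp [h0]
      have hmem : ∀ l, w ^ m * aeval x (p l) * x ^ d l ∈ Fw w := fun l => by
        refine mul_mem (mul_mem (pow_mem (IntermediateField.mem_adjoin_simple_self k w) _) ?_) (pow_mem ?_ _)
        · rw [hw, adjoin_inv]; exact poly_mem x _
        · rw [hw, adjoin_inv]; exact IntermediateField.mem_adjoin_simple_self k x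
      have hI := int_coeff hK hwt (fun l => w ^ d l * b l) hu hres (fun l => ⟨_, hmem l⟩) (fun Q hQ => by
        have e : ∑ l, w ^ m * aeval x (p l) * x ^ d l * (w ^ d l * b l) = w ^ m * z := by
          rw [hp, Finset.mul_sum]
          refine Finset.sum_congr rfl fun l _ => ?_
          rw [show w ^ m * aeval x (p l) * x ^ d l * (w ^ d l * b l) = w ^ m * (aeval x (p l) * b l) * (x * w) ^ d l by
            rw [mul_pow]; ring, hw, mul_inv_cancel₀ hx0, one_pow, mul_one]
        show Q.1 (∑ l, w ^ m * aeval x (p l) * x ^ d l * (w ^ d l * b l)) ≤ 1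
        rw [e, map_mul, map_pow, hvw Q ((hzw Q).1 hQ)]
        refine (mul_le_mul' le_rfl (((mem_L_nsmul hK hD).1 hz).1 Q ((hzw Q).1 hQ))).trans_eq ?_
        rw [← exp_nsmul, ← exp_add, nsmul_eq_mul]; simp) i Q0 ((hzw Q0).2 hQ0)
      rw [map_mul, map_mul, map_pow, map_pow, hvw Q0 hQ0, v_x hT1 hQ0, v_aeval_inf (hT1 Q0 hQ0) h0,
        ← exp_nsmul, ← exp_nsmul, ← exp_add, ← exp_add, ← exp_zero, exp_le_exp, nsmul_eq_mul, nsmul_eq_mul] at hI
      simp at hI
      omega
  have h2 : ell (Δ + (m : ℤ) • D) = ∑ i, (m + d i + 1) := by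
    refine ell_boxes hx (fun i => B' i) hliB _ _ (fun p hp => sum_mem fun i _ Q => ?_) fun z hz => ?_
    · by_cases hQ : Q ∈ T
      · rw [Finsupp.add_apply, hΔT Q hQ, zero_add, Finsupp.smul_apply, hD, if_pos hQ, smul_eq_mul, mul_one]
        rcases eq_or_ne (p i) 0 with h0 | h0
        · simp [h0]
        rw [show aeval x (p i) * B' i = aeval x (p i) * w ^ d i * (x ^ d i * B' i) by
          rw [show aeval x (p i) * w ^ d i * (x ^ d i * B' i) = aeval x (p i) * B' i * (w * x) ^ d i by rw [mul_pow]; ring,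
            hw, inv_mul_cancel₀ hx0, one_pow, mul_one], map_mul, map_mul, map_pow, hvw Q hQ, v_aeval_inf (hT1 Q hQ) h0]
        refine (mul_le_mul' le_rfl (hinf i Q hQ)).trans ?_
        rw [mul_one, ← exp_nsmul, ← exp_add, exp_le_exp, nsmul_eq_mul]
        have := hp i
        omega
      · rw [Finsupp.add_apply, Finsupp.smul_apply, hD, if_neg hQ, smul_zero, add_zero]
        obtain ⟨c, hc⟩ := exists_value hK hx (show ¬ Q.ord x < 0 from fun h => hQ ((hT Q).2 h))
        rw [map_mul]
        exact (mul_le_mul' (v_aeval_le Q (hxA Q hQ) _) ((hreg Q hQ (B' i) c hc).2 (hfin i c Q hc))).trans_eq (one_mul _)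
    · have hpoly : ∀ i, ∃ p : k[X], p.natDegree ≤ m + d i ∧ Tr k x (z * b i) = aeval x p := by
        intro i
        obtain ⟨p, hp⟩ := eq_poly hK hx (Tr_mem x (z * b i)) fun c => by
          have hR : Reg k (x - algebraMap k K c) z := fun Q hQ => by
            refine (hreg Q (hnotT Q c hQ) z c hQ).1 ?_
            simpa [hD, hnotT Q c hQ] using hz Q
          have := (trace_dual hK (trans_shift hx c) hH (by rw [hshift]; exact hsx) z).2 hR (b i)
            fun Q hQ => hbA i Q (hnotT Q c hQ)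
          rw [← Tr_congr (adjoin_shift x c)]
          exact this
        refine ⟨p, ?_, hp⟩
        rcases eq_or_ne p 0 with h0 | h0
        · simp [h0]
        have hR : Reg k w (w ^ m * z) := fun Q hQ t ht Ht hHt => by
          have hQT := (hzw Q).1 hQ
          rw [map_mul, hw1 Q hQT Ht t ht hHt, mul_one, map_mul, map_pow, hvw Q hQT]
          refine (mul_le_mul' le_rfl (hz Q)).trans_eq ?_
          rw [Finsupp.add_apply, hΔT Q hQT, zero_add, Finsupp.smul_apply, hD, if_pos hQT, ← exp_nsmul, ← exp_add,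
            nsmul_eq_mul, smul_eq_mul]
          simp
        have h3 : Int k w (Tr k w (w ^ m * z * (w ^ d i * b i))) :=
          (trace_dual hK hwt hH hsw _).2 hR _ (hu i)
        have h4 := h3 Q0 ((hzw Q0).2 hQ0)
        rw [show w ^ m * z * (w ^ d i * b i) = w ^ (m + d i) * (z * b i) by rw [pow_add]; ring,
          Tr_mul (pow_mem (IntermediateField.mem_adjoin_simple_self k w) _), Tr_congr (adjoin_inv x), hp, map_mul,
          map_pow, hvw Q0 hQ0, v_aeval_inf (hT1 Q0 hQ0) h0, ← exp_nsmul, ← exp_add, ← exp_zero, exp_le_exp,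
          nsmul_eq_mul] at h4
        push_cast at h4
        omega
      choose p hp1 hp2 using hpoly
      exact ⟨p, hp1, by conv_lhs => rw [hexp z]; simp only [hp2]⟩
  -- Riemann–Roch for large degree
  have hTn : (T.card : ℤ) = n := by rw [card_T hK hx hT hT1 hD, hn]
  have hsum : ((∑ i, (m - d i + 1) : ℕ) : ℤ) + (∑ i, (m + d i + 1) : ℕ) = 2 * (n : ℤ) * (m + 1) := by
    rw [← Nat.cast_add, ← Finset.sum_add_distrib,
      Finset.sum_congr rfl fun i _ => show m - d i + 1 + (m + d i + 1) = 2 * (m + 1) by have := hdm i; omega]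
    simp
    ring
  have hn1 : (1 : ℤ) ≤ n := by rw [← hTn, hTcard]; push_cast; omega
  have hm2 : (2 * (g : ℤ)) ≤ (m : ℤ) := by omega
  have hmn : 2 * (g : ℤ) - 1 ≤ (m : ℤ) * n := by nlinarith
  have r1 := ell_eq_of_large hK (D := (m : ℤ) • D) (by rw [deg_zsmul, hDd, hTn]; exact hmn)
  rw [h1, deg_zsmul, hDd, hTn] at r1
  -- pass to a multiple of large degree for the dual space
  have hΔd : Δ.deg = (divDiff Φ 1 s).deg + 2 * n := by
    rw [hΔ, deg_add, deg_add, deg_div hK.1, deg_zsmul, hDd, hTn]; ring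
  have r2 := riemann_roch hK (exists_canonical hK).choose_spec (Δ + (m : ℤ) • D)
  have hle : (Δ + (m : ℤ) • D).deg ≥ 2 * (g : ℤ) - 1 := by
    by_contra hlt
    rw [not_le] at hlt
    -- a large space forces a large degree
    have h3 : ell (Δ + (m : ℤ) • D) ≤ 2 * g + 1 := by
      set E := Δ + (m : ℤ) • D
      clear_value E
      have := finite_L hK.1 (E + Finsupp.single Q0 (2 * (g : ℤ) - E.deg))
      have h4 : ell E ≤ ell (E + Finsupp.single Q0 (2 * (g : ℤ) - E.deg)) :=
        Submodule.finrank_mono (L_mono (le_add_of_nonneg_right (Finsupp.single_nonneg.2 (by omega))))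
      have h5 := ell_eq_of_large hK (D := E + Finsupp.single Q0 (2 * (g : ℤ) - E.deg)) (by
        rw [deg_add, deg_single, deg_eq_one hK Q0]; push_cast; omega)
      rw [deg_add, deg_single, deg_eq_one hK Q0] at h5
      push_cast at h5
      omega
    rw [h2] at h3
    have h6 : n * (m + 1) ≤ ∑ i, (m + d i + 1) := by
      have := Finset.sum_le_sum (s := (Finset.univ : Finset (Fin n))) (f := fun _ => m + 1) (g := fun i => m + d i + 1)
        fun i _ => by omega
      simpa using this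
    have h7 : m + 1 ≤ n * (m + 1) := Nat.le_mul_of_pos_left _ (by omega)
    omega
  have r3 := ell_eq_of_large hK (D := Δ + (m : ℤ) • D) hle
  rw [h2, deg_add, deg_zsmul, hDd, hTn, hΔd] at r3
  nlinarith

end Groth.Agent.FunFldLib.Fibre
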