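import Groth.Agent.FunFldLib.Fibre.Local

/-! The lattice of functions with poles over infinity and its trace dual. -/

set_option autoImplicit false

open WithZero Polynomial
open scoped Classical
open LocRes (hasseD IsHasseFamily)

namespace Groth.Agent.FunFldLib.Fibre

open FunFld Groth.Agent.FunFldLib

variable {k K : Type*} [Field k] [Field K] [Algebra k K]

local notation "Fw" w => IntermediateField.adjoin k ({w} : Set K)

/-- the trace to `k(w)`, as an element of `K` -/
noncomputable def Tr (k : Type*) {K : Type*} [Field k] [Field K] [Algebra k K] (w z : K) : K :=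
  ((Algebra.trace (IntermediateField.adjoin k ({w} : Set K)) K z :
    IntermediateField.adjoin k ({w} : Set K)) : K)

theorem deg_zsmul (a : ℤ) (D : Divisor k K) : (a • D).deg = a * D.deg := by
  let f : Divisor k K →+ ℤ := AddMonoidHom.mk' (fun D => D.deg) deg_add
  have := map_zsmul f a D
  simpa [f] using this

theorem tr_eq_of_eq {F1 F2 : IntermediateField k K} (h : F1 = F2) (z : K) :
    ((Algebra.trace F1 K z : F1) : K) = ((Algebra.trace F2 K z : F2) : K) := by subst h; rfl

theorem Tr_congr {w w' : K} (h : (Fw w) = Fw w') (z : K) : Tr k w z = Tr k w' z := tr_eq_of_eq h z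

theorem Tr_add (w a b : K) : Tr k w (a + b) = Tr k w a + Tr k w b := by
  simp only [Tr, map_add, IntermediateField.coe_add]

theorem Tr_sum (w : K) {ι : Type*} (S : Finset ι) (f : ι → K) :
    Tr k w (∑ i ∈ S, f i) = ∑ i ∈ S, Tr k w (f i) := by
  simp only [Tr, map_sum, AddSubmonoidClass.coe_finsetSum]

theorem Tr_mul {w a : K} (ha : a ∈ Fw w) (z : K) : Tr k w (a * z) = a * Tr k w z := by
  have e : a * z = (⟨a, ha⟩ : Fw w) • z := rfl
  rw [Tr, e, map_smul]
  rfl

theorem Tr_mem (w z : K) : Tr k w z ∈ Fw w := (Algebra.trace (Fw w) K z).2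

theorem adjoin_shift (x : K) (c : k) : (Fw (x - algebraMap k K c)) = Fw x := by
  refine le_antisymm (IntermediateField.adjoin_simple_le_iff.2
    (sub_mem (IntermediateField.mem_adjoin_simple_self k x) (IntermediateField.algebraMap_mem _ c)))
    (IntermediateField.adjoin_simple_le_iff.2 ?_)
  have := add_mem (IntermediateField.mem_adjoin_simple_self k (x - algebraMap k K c))
    (IntermediateField.algebraMap_mem _ c)
  rwa [sub_add_cancel] at this

theorem adjoin_inv (x : K) : (Fw x⁻¹) = Fw x := by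
  refine le_antisymm (IntermediateField.adjoin_simple_le_iff.2
    (inv_mem (IntermediateField.mem_adjoin_simple_self k x)))
    (IntermediateField.adjoin_simple_le_iff.2 ?_)
  have := inv_mem (IntermediateField.mem_adjoin_simple_self k x⁻¹)
  rwa [inv_inv] at this

theorem poly_mem (x : K) (p : k[X]) : aeval x p ∈ Fw x :=
  IntermediateField.algebra_adjoin_le_adjoin _ _ (Polynomial.aeval_mem_adjoin_singleton _ _)

theorem trans_shift {x : K} (hx : Transcendental k x) (c : k) : Transcendental k (x - algebraMap k K c) := by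
  intro halg
  apply hx
  have := halg.add (isAlgebraic_algebraMap c)
  rwa [sub_add_cancel] at this

theorem v_aeval_at {x : K} {Q : Place k K} {c : k} (hc : 0 < Q.ord (x - algebraMap k K c)) {p : k[X]}
    (hp : p.eval c ≠ 0) : Q.1 (aeval x p) = 1 := by
  have h := v_unit (w := x - algebraMap k K c) (p := p.comp (X + C c)) ?_ hc
  · simpa [aeval_comp] using h
  · simpa [eval_comp] using hp

theorem v_aeval_lt {x : K} {Q : Place k K} {c : k} (hc : 0 < Q.ord (x - algebraMap k K c)) {p : k[X]}
    (hp : p.eval c = 0) : Q.1 (aeval x p) < 1 := by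
  obtain ⟨q, rfl⟩ := dvd_iff_isRoot.2 hp
  rw [map_mul, map_mul, map_sub, aeval_X, aeval_C]
  have hx : Q.1 x ≤ 1 := by
    rw [show x = (x - algebraMap k K c) + algebraMap k K c by ring]
    exact (Q.1.map_add _ _).trans (max_le (v_w_lt hc).le (Q.2.1 c))
  exact (mul_le_mul' le_rfl (v_aeval_le Q hx q)).trans_lt (by rw [mul_one]; exact v_w_lt hc)

theorem v_aeval_inf {x : K} {Q : Place k K} (hQ : Q.ord x = -1) {p : k[X]} (hp : p ≠ 0) :
    Q.1 (aeval x p) = exp (p.natDegree : ℤ) := by
  have hx : Q.1 x = exp 1 := by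
    rw [v_eq_exp Q (fun h => by simp [h, Place.ord] at hQ), hQ, neg_neg]
  rw [aeval_eq_sum_range, Finset.sum_range_succ, Valuation.map_add_eq_of_lt_right _ ?_]
  · rw [Algebra.smul_def, map_mul, map_pow, hx, v_algebraMap Q (c := p.coeff p.natDegree) (leadingCoeff_ne_zero.2 hp), one_mul,
      ← exp_nsmul, nsmul_eq_mul, mul_one]
  · refine Valuation.map_sum_lt _ ?_ fun i hi => ?_
    · rw [Algebra.smul_def, map_mul, map_pow, hx, v_algebraMap Q (c := p.coeff p.natDegree) (leadingCoeff_ne_zero.2 hp), one_mul]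
      exact pow_ne_zero _ exp_ne_zero
    · rw [Finset.mem_range] at hi
      refine (smul_le Q _ _).trans_lt ?_
      rw [Algebra.smul_def, map_mul, map_pow, map_pow, hx, v_algebraMap Q (c := p.coeff p.natDegree) (leadingCoeff_ne_zero.2 hp), one_mul,
        ← exp_nsmul, ← exp_nsmul, exp_lt_exp]
      simpa using (by exact_mod_cast hi : (i : ℤ) < p.natDegree)

variable [IsAlgClosed k] (hK : IsFunctionField k K) {x : K} (hx : Transcendental k x)
include hK hx

theorem exists_value {Q : Place k K} (hQ : ¬ Q.ord x < 0) : ∃ c : k, 0 < Q.ord (x - algebraMap k K c) := by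
  have hx0 : x ≠ 0 := fun h => hx (h ▸ isAlgebraic_zero)
  obtain ⟨c, hc⟩ := exists_res hK Q ((v_le_one_iff Q hx0).2 (not_lt.1 hQ))
  exact ⟨c, (v_lt_one_iff Q fun h => (trans_shift hx c) (by rw [h]; exact isAlgebraic_zero)).1 hc⟩

/-- an element of `k(x)` integral away from infinity is a polynomial -/
theorem eq_poly {a : K} (ha : a ∈ Fw x) (hi : ∀ c : k, Int k (x - algebraMap k K c) a) :
    ∃ p : k[X], a = aeval x p := by
  obtain ⟨r, s, rfl⟩ := (IntermediateField.mem_adjoin_simple_iff _ _).1 ha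
  clear ha
  induction hd : s.natDegree using Nat.strong_induction_on generalizing r s with
  | _ N ih =>
    subst hd
    rcases eq_or_ne s 0 with rfl | hs
    · exact ⟨0, by simp⟩
    rcases Nat.eq_zero_or_pos s.natDegree with h0 | hpos
    · obtain ⟨c, rfl⟩ := natDegree_eq_zero.1 h0
      exact ⟨C c⁻¹ * r, by rw [map_mul, aeval_C, aeval_C, map_inv₀, div_eq_mul_inv, mul_comm]⟩
    obtain ⟨c, hc⟩ := IsAlgClosed.exists_root s (fun h => by rw [degree_eq_natDegree hs] at h; exact hpos.ne' (by exact_mod_cast h))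
    obtain ⟨Q, hQ⟩ := exists_zero_place hK (trans_shift hx c)
    have hv := hi c Q hQ
    have hs' : aeval x s ≠ 0 := fun h => hs (transcendental_iff.1 hx s h)
    have hr : r.eval c = 0 := by
      by_contra hne
      rw [map_div₀, v_aeval_at hQ hne, div_le_one₀ (zero_lt_iff.2 (v_ne_zero Q hs'))] at hv
      exact absurd (hv.trans_lt (v_aeval_lt hQ hc)) (lt_irrefl _)
    obtain ⟨s', rfl⟩ := dvd_iff_isRoot.2 hc
    obtain ⟨r', rfl⟩ := dvd_iff_isRoot.2 hr
    have hX : aeval x (X - C c) ≠ 0 := by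
      intro h; exact X_sub_C_ne_zero c (transcendental_iff.1 hx _ h)
    have e : aeval x ((X - C c) * r') / aeval x ((X - C c) * s') = aeval x r' / aeval x s' := by
      rw [map_mul, map_mul, mul_div_mul_left _ _ hX]
    rw [e] at hi ⊢
    refine ih s'.natDegree ?_ r' s' hi rfl
    rw [natDegree_mul (X_sub_C_ne_zero c) (right_ne_zero_of_mul hs), natDegree_X_sub_C]
    omega

omit hx in
theorem mem_L_nsmul {T : Finset (Place k K)} {D : Divisor k K} (hD : ∀ Q, D Q = if Q ∈ T then 1 else 0)
    {z : K} {m : ℤ} : z ∈ FunFld.L (m • D) ↔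
      (∀ Q ∈ T, Q.1 z ≤ exp m) ∧ ∀ Q, Q ∉ T → Q.1 z ≤ 1 := by
  constructor
  · intro h
    refine ⟨fun Q hQ => ?_, fun Q hQ => ?_⟩ <;> have := h Q <;> simpa [hD, hQ] using this
  · rintro ⟨h1, h2⟩ Q
    by_cases hQ : Q ∈ T
    · simpa [hD, hQ] using h1 Q hQ
    · simpa [hD, hQ] using h2 Q hQ

variable {T : Finset (Place k K)} (hT : ∀ Q, Q ∈ T ↔ Q.ord x < 0) (hT1 : ∀ Q ∈ T, Q.ord x = -1)
variable {D : Divisor k K} (hD : ∀ Q, D Q = if Q ∈ T then 1 else 0)
include hT hT1 hD

omit [IsAlgClosed k] hK hx hT hD in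
theorem v_x {Q : Place k K} (hQ : Q ∈ T) : Q.1 x = exp 1 := by
  have := hT1 Q hQ
  rw [v_eq_exp Q (fun h => by simp [h, Place.ord] at this), this, neg_neg]

omit [IsAlgClosed k] hK hx hD hT1 in
theorem inv_zero_iff {Q : Place k K} : 0 < Q.ord x⁻¹ ↔ Q ∈ T := by
  rw [ord_inv, hT]; omega

theorem card_T : (T.card : ℤ) = (Module.finrank (Fw x) K : ℤ) := by
  classical
  obtain ⟨S, hS, hsum⟩ := sum_ord hK (transcendental_inv hK.1 hx)
  have hST : S = T := Finset.ext fun Q => (hS Q).trans (inv_zero_iff hT)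
  rw [adjoin_inv] at hsum
  rw [← hsum, hST, Finset.sum_congr rfl (fun Q hQ => by rw [ord_inv, hT1 Q hQ]; rfl : ∀ Q ∈ T, Q.ord x⁻¹ = 1)]
  simp

theorem deg_D : D.deg = (T.card : ℤ) := by
  classical
  have e : D = ∑ Q ∈ T, Finsupp.single Q 1 := by
    ext Q
    simp [hD, Finsupp.single_apply]
  rw [e]
  · clear e hD hT hT1
    induction T using Finset.induction_on with
    | empty => simp [deg_zero]
    | insert a S ha ih => rw [Finset.sum_insert ha, deg_add, deg_single, deg_eq_one hK a, ih]; simp [ha]; ring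

/-- adapted generators of the functions with poles at infinity only -/
theorem exists_lattice :
    ∃ (n : ℕ) (b : Fin n → K) (d : Fin n → ℕ), n = Module.finrank (Fw x) K ∧
      (∀ i, b i ∈ FunFld.L ((d i : ℤ) • D)) ∧
      (∀ c : Fin n → k, c ≠ 0 → ∃ Q : Place k K, 0 < Q.ord x⁻¹ ∧
        exp (-Q.ord x⁻¹) < Q.1 (∑ i, algebraMap k K (c i) * (x⁻¹ ^ d i * b i))) ∧
      ∀ (m : ℕ) (z : K), z ∈ FunFld.L ((m : ℤ) • D) → ∃ p : Fin n → k[X], z = ∑ i, aeval x (p i) * b i := by
  classical
  set w := x⁻¹ with hw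
  have hx0 : x ≠ 0 := fun h => hx (h ▸ isAlgebraic_zero)
  have hvw : ∀ Q ∈ T, Q.1 w = exp (-1) := fun Q hQ => by rw [hw, map_inv₀, v_x hT1 hQ, ← exp_neg]
  let P : ℕ → K → (T → k) → Prop := fun m z v =>
    z ∈ FunFld.L ((m : ℤ) • D) ∧ ∀ Q : T, Q.1.1 (w ^ m * z - algebraMap k K (v Q)) < 1
  let S : ℕ → Submodule k (T → k) := fun m =>
    { carrier := {v | ∃ z, P m z v}
      add_mem' := by
        rintro a b ⟨z, hz, hza⟩ ⟨y, hy, hyb⟩
        refine ⟨z + y, add_mem hz hy, fun Q => ?_⟩
        rw [show w ^ m * (z + y) - algebraMap k K ((a + b) Q) =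
          (w ^ m * z - algebraMap k K (a Q)) + (w ^ m * y - algebraMap k K (b Q)) by
            rw [Pi.add_apply, map_add]; ring]
        exact Valuation.map_add_lt _ (hza Q) (hyb Q)
      zero_mem' := ⟨0, zero_mem _, fun Q => by simp⟩
      smul_mem' := by
        rintro c a ⟨z, hz, hza⟩
        refine ⟨c • z, Submodule.smul_mem _ c hz, fun Q => ?_⟩
        rw [show w ^ m * (c • z) - algebraMap k K ((c • a) Q) = c • (w ^ m * z - algebraMap k K (a Q)) by
          rw [Pi.smul_apply, smul_eq_mul, map_mul, Algebra.smul_def, Algebra.smul_def]; ring]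
        exact (smul_le _ _ _).trans_lt (hza Q) }
  -- large degrees give everything
  obtain ⟨M, hM⟩ : ∃ M : ℕ, S M = ⊤ := by
    refine ⟨2 * genus k K + 1, ?_⟩
    have hcard : 0 < T.card := by
      have := card_T hK hx hT hT1 hD
      have : FiniteDimensional (Fw x) K := finite_over hK.1 hx
      have h0 : 0 < Module.finrank (Fw x) K := Module.finrank_pos
      omega
    set M := 2 * genus k K + 1
    rw [eq_top_iff, ← (Pi.basisFun k T).span_eq, Submodule.span_le]
    rintro _ ⟨Q, rfl⟩
    set E0 : Divisor k K := ((M : ℤ) - 1) • D with hE0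
    set E : Divisor k K := E0 + Finsupp.single Q.1 1 with hE
    have hE0d : 2 * (genus k K : ℤ) - 1 ≤ E0.deg := by
      rw [hE0, deg_zsmul, deg_D hK hx hT hT1 hD, show (M : ℤ) - 1 = 2 * (genus k K : ℤ) by simp [M]]
      nlinarith [show (1 : ℤ) ≤ T.card by exact_mod_cast hcard, show (0 : ℤ) ≤ genus k K from Int.natCast_nonneg _]
    obtain ⟨z, hz, hzQ⟩ : ∃ z ∈ FunFld.L E, z ∉ FunFld.L (E - Finsupp.single Q.1 1) := by
      by_contra hcon
      push Not at hcon
      have := finite_L hK.1 (E - Finsupp.single Q.1 1)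
      have h1 : ell E ≤ ell (E - Finsupp.single Q.1 1) := Submodule.finrank_mono (show FunFld.L E ≤ _ from hcon)
      have h2 := ell_eq_of_large hK (D := E0) hE0d
      have h3 := ell_eq_of_large hK (D := E) (by rw [hE, deg_add, deg_single, deg_eq_one hK Q.1]; omega)
      rw [show E - Finsupp.single Q.1 1 = E0 by rw [hE]; abel] at h1
      rw [hE, deg_add, deg_single, deg_eq_one hK Q.1] at h3
      rw [← hE] at h3
      push_cast at h3
      omega
    obtain ⟨hz0, hzo⟩ := ord_eq_of_exact hK hz hzQ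
    have hEQ : E Q.1 = M := by simp [hE, hE0, hD, Q.2]
    obtain ⟨c, hc⟩ := exists_res hK Q.1 (z := w ^ M * z) (by
      rw [map_mul, map_pow, hvw _ Q.2, v_eq_exp _ hz0, hzo, hEQ, neg_neg, ← exp_nsmul, ← exp_add,
        nsmul_eq_mul, ← exp_zero, exp_le_exp]; simp)
    have hc0 : c ≠ 0 := by
      rintro rfl
      rw [map_zero, sub_zero, map_mul, map_pow, hvw _ Q.2, v_eq_exp _ hz0, hzo, hEQ, neg_neg, ← exp_nsmul,
        ← exp_add, nsmul_eq_mul, ← exp_zero, exp_lt_exp] at hc
      simp at hc
    refine ⟨c⁻¹ • z, Submodule.smul_mem _ _ ((mem_L_nsmul hK hD).2 ⟨fun R hR => ?_, fun R hR => ?_⟩), fun R => ?_⟩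
    · refine (hz R).trans (exp_le_exp.2 ?_)
      simp only [hE, hE0, Finsupp.add_apply, Finsupp.smul_apply, hD, if_pos hR, Finsupp.single_apply]
      split_ifs <;> simp
    · have hne : Q.1 ≠ R := fun h => hR (h ▸ Q.2)
      refine (hz R).trans_eq ?_
      simp [hE, hE0, hD, hR, Finsupp.single_eq_of_ne hne.symm]
    · simp only [Pi.basisFun_apply]
      rcases eq_or_ne R Q with rfl | hne
      · rw [Pi.single_eq_same, map_one, Algebra.smul_def, show w ^ M * (algebraMap k K c⁻¹ * z) - 1 =
          algebraMap k K c⁻¹ * (w ^ M * z - algebraMap k K c) by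
            rw [mul_sub, ← map_mul, inv_mul_cancel₀ hc0, map_one]; ring]
        rw [← Algebra.smul_def]
        exact (smul_le _ _ _).trans_lt hc
      · rw [Pi.single_eq_of_ne hne, map_zero, sub_zero, map_mul, map_pow, hvw _ R.2]
        refine (mul_le_mul' le_rfl ((smul_le _ _ _).trans (hz R.1))).trans_lt ?_
        have : E R.1 = (M : ℤ) - 1 := by
          simp [hE, hE0, hD, R.2, Finsupp.single_eq_of_ne (fun h => hne (Subtype.ext h))]
        rw [this, ← exp_nsmul, ← exp_add, nsmul_eq_mul, ← exp_zero, exp_lt_exp]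
        simp
  have hmono : ∀ i j, i ≤ j → S i ≤ S j := by
    rintro i j hij v ⟨z, hz, hzv⟩
    refine ⟨x ^ (j - i) * z, (mem_L_nsmul hK hD).2 ⟨fun Q hQ => ?_, fun Q hQ => ?_⟩, fun Q => ?_⟩
    · rw [map_mul, map_pow, v_x hT1 hQ]
      refine (mul_le_mul' le_rfl (((mem_L_nsmul hK hD).1 hz).1 Q hQ)).trans_eq ?_
      rw [← exp_nsmul, ← exp_add, nsmul_eq_mul]; congr 1; push_cast [Nat.cast_sub hij]; ring
    · rw [map_mul, map_pow]
      refine mul_le_one' (pow_le_one' ((v_le_one_iff Q hx0).2 (not_lt.1 fun h => hQ ((hT Q).2 h))) _)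
        (((mem_L_nsmul hK hD).1 hz).2 Q hQ)
    · have e : w ^ j * (x ^ (j - i) * z) = w ^ i * z := by
        conv_lhs => rw [show j = i + (j - i) by omega, pow_add, Nat.add_sub_cancel_left]
        rw [hw, mul_assoc, ← mul_assoc (x⁻¹ ^ (j - i)), ← mul_pow, inv_mul_cancel₀ hx0, one_pow, one_mul]
      rw [e]; exact hzv Q
  set n := T.card with hn
  have hex : ∃ N, ∃ (v : Fin n → T → k) (d : Fin n → ℕ), LinearIndependent k v ∧ (∀ i, v i ∈ S (d i)) ∧ ∑ i, d i = N := by
    refine ⟨_, fun i => Pi.basisFun k T (T.equivFin.symm i), fun _ => M, ?_, fun i => hM ▸ Submodule.mem_top, rfl⟩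
    exact (Pi.basisFun k T).linearIndependent.comp _ T.equivFin.symm.injective
  obtain ⟨v, d, hli, hv, hsum⟩ := Nat.find_spec hex
  have hspan : Submodule.span k (Set.range v) = ⊤ :=
    hli.span_eq_top_of_card_eq_finrank' (by simp [hn])
  have hgreedy : ∀ m, ∀ u ∈ S m, ∃ a : Fin n → k, u = ∑ i, a i • v i ∧ ∀ i, a i ≠ 0 → d i ≤ m := by
    intro m u hu
    obtain ⟨a, ha⟩ := (Submodule.mem_span_range_iff_exists_fun k).1
      (hspan.symm ▸ Submodule.mem_top : u ∈ Submodule.span k (Set.range v))
    refine ⟨a, ha.symm, fun i hai => not_lt.1 fun hlt => ?_⟩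
    refine Nat.find_min hex (m := ∑ l, Function.update d i m l) ?_
      ⟨Function.update v i u, Function.update d i m, ?_, fun l => ?_, rfl⟩
    · rw [← hsum, Finset.sum_update_of_mem (Finset.mem_univ i)]
      rw [← Finset.add_sum_erase _ _ (Finset.mem_univ i), Finset.sdiff_singleton_eq_erase]
      omega
    · rw [Fintype.linearIndependent_iff]
      intro b hb
      have h1 : ∑ l, ((if l = i then 0 else b l) + b i * a l) • v l = 0 := by
        rw [← hb]
        simp only [add_smul, Finset.sum_add_distrib, mul_smul, ← Finset.smul_sum, ha]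
        rw [← Finset.add_sum_erase Finset.univ (fun l => b l • Function.update v i u l) (Finset.mem_univ i),
          ← Finset.add_sum_erase Finset.univ (fun l => (if l = i then 0 else b l) • v l) (Finset.mem_univ i)]
        simp only [Function.update_self, if_true, zero_smul, zero_add]
        rw [add_comm]
        congr 1
        refine Finset.sum_congr rfl fun l hl => ?_
        rw [Function.update_of_ne (Finset.ne_of_mem_erase hl), if_neg (Finset.ne_of_mem_erase hl)]
      have h2 := Fintype.linearIndependent_iff.1 hli _ h1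
      have h3 : b i = 0 := by simpa [hai] using h2 i
      intro l
      rcases eq_or_ne l i with rfl | hl
      · exact h3
      · simpa [hl, h3] using h2 l
    · rcases eq_or_ne l i with rfl | hl
      · simpa using hu
      · simpa [Function.update_of_ne hl] using hv l
  choose b hb hbv using hv
  refine ⟨n, b, d, by exact_mod_cast card_T hK hx hT hT1 hD, hb, fun c hc => ?_, fun m => ?_⟩
  · obtain ⟨Q, hQ⟩ : ∃ Q : T, (∑ i, c i • v i) Q ≠ 0 := by
      by_contra hcon
      push Not at hcon
      exact hc (funext (Fintype.linearIndependent_iff.1 hli c (funext hcon)))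
    refine ⟨Q.1, (inv_zero_iff hT).2 Q.2, ?_⟩
    rw [ord_inv, hT1 _ Q.2, neg_neg]
    by_contra hle
    rw [not_lt] at hle
    set r := ∑ i, c i • v i
    have h : Q.1.1 (algebraMap k K (r Q)) < 1 := by
      rw [show algebraMap k K (r Q) = (∑ i, algebraMap k K (c i) * (w ^ d i * b i)) -
        ∑ i, algebraMap k K (c i) * (w ^ d i * b i - algebraMap k K (v i Q)) by
          simp only [r]
          rw [← Finset.sum_sub_distrib, Finset.sum_apply, map_sum]
          exact Finset.sum_congr rfl fun i _ => by rw [Pi.smul_apply, smul_eq_mul, map_mul]; ring]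
      refine (Q.1.1.map_sub _ _).trans_lt (max_lt (hle.trans_lt (by rw [← exp_zero, exp_lt_exp]; omega)) ?_)
      refine Valuation.map_sum_lt _ one_ne_zero fun i _ => ?_
      rw [← Algebra.smul_def]
      exact (smul_le _ _ _).trans_lt (hbv i Q)
    rw [v_algebraMap _ hQ] at h
    exact lt_irrefl _ h
  · induction m using Nat.strong_induction_on with
    | _ m ih =>
      intro z hz
      obtain ⟨hz1, hz2⟩ := (mem_L_nsmul hK hD).1 hz
      choose u hu using fun Q : T => exists_res hK Q.1 (z := w ^ m * z) (by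
        rw [map_mul, map_pow, hvw _ Q.2]
        refine (mul_le_mul' le_rfl (hz1 _ Q.2)).trans_eq ?_
        rw [← exp_nsmul, ← exp_add, nsmul_eq_mul]; simp)
      obtain ⟨a, ha, had⟩ := hgreedy m u ⟨z, hz, hu⟩
      set p : Fin n → k[X] := fun i => C (a i) * X ^ (m - d i)
      set z' := z - ∑ i, aeval x (p i) * b i with hz'
      have hz'T : ∀ Q ∈ T, Q.1 z' ≤ exp ((m : ℤ) - 1) := by
        intro Q hQ
        have h : Q.1 (w ^ m * z') ≤ exp (-1) := by
          rw [← lt_one_iff_le]
          have e : w ^ m * z' = (w ^ m * z - algebraMap k K (u ⟨Q, hQ⟩)) -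
              ∑ i, algebraMap k K (a i) * (w ^ d i * b i - algebraMap k K (v i ⟨Q, hQ⟩)) := by
            have e1 : ∑ i, algebraMap k K (a i) * algebraMap k K (v i ⟨Q, hQ⟩) = algebraMap k K (u ⟨Q, hQ⟩) := by
              rw [ha, Finset.sum_apply, map_sum]
              exact Finset.sum_congr rfl fun i _ => by rw [Pi.smul_apply, smul_eq_mul, map_mul]
            have e2 : ∀ i, w ^ m * (aeval x (p i) * b i) = algebraMap k K (a i) * (w ^ d i * b i) := by
              intro i
              rcases eq_or_ne (a i) 0 with h | h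
              · simp [p, h]
              · simp only [p, map_mul, aeval_C, map_pow, aeval_X]
                conv_lhs => rw [show m = d i + (m - d i) by have := had i h; omega, pow_add, Nat.add_sub_cancel_left]
                rw [show w ^ d i * w ^ (m - d i) * (algebraMap k K (a i) * x ^ (m - d i) * b i) =
                  algebraMap k K (a i) * (w ^ d i * b i) * ((w * x) ^ (m - d i)) by rw [mul_pow]; ring,
                  hw, inv_mul_cancel₀ hx0, one_pow, mul_one]
            rw [hz', mul_sub, Finset.mul_sum, Finset.sum_congr rfl fun i _ => e2 i]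
            simp only [mul_sub, Finset.sum_sub_distrib, e1]
            ring
          rw [e]
          refine (Q.1.map_sub _ _).trans_lt (max_lt (hu ⟨Q, hQ⟩) (Valuation.map_sum_lt _ one_ne_zero fun i _ => ?_))
          rw [← Algebra.smul_def]
          exact (smul_le _ _ _).trans_lt (hbv i ⟨Q, hQ⟩)
        rw [map_mul, map_pow, hvw Q hQ, ← exp_nsmul, nsmul_eq_mul] at h
        have h2 := mul_le_mul' (le_refl (exp (m : ℤ))) h
        rw [← mul_assoc, ← exp_add, show (m : ℤ) + (m : ℤ) * (-1) = 0 by ring, exp_zero, one_mul, ← exp_add] at h2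
        exact h2.trans_eq (by ring_nf)
      have hz'T' : ∀ Q, Q ∉ T → Q.1 z' ≤ 1 := by
        intro Q hQ
        refine (Q.1.map_sub _ _).trans (max_le (hz2 Q hQ) (Valuation.map_sum_le _ fun i _ => ?_))
        rw [map_mul]
        exact mul_le_one' (v_aeval_le Q ((v_le_one_iff Q hx0).2 (not_lt.1 fun h => hQ ((hT Q).2 h))) _)
          (((mem_L_nsmul hK hD).1 (hb i)).2 Q hQ)
      rcases Nat.eq_zero_or_pos m with rfl | hm
      · have : z' = 0 := by
          have h : z' ∈ FunFld.L ((-1 : ℤ) • D) := (mem_L_nsmul hK hD).2 ⟨fun Q hQ => by simpa using hz'T Q hQ, hz'T'⟩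
          rw [L_eq_bot_of_deg_neg hK.1, Submodule.mem_bot] at h
          · exact h
          · rw [deg_zsmul, deg_D hK hx hT hT1 hD]
            have := card_T hK hx hT hT1 hD
            have : FiniteDimensional (Fw x) K := finite_over hK.1 hx
            have h0 : 0 < Module.finrank (Fw x) K := Module.finrank_pos
            omega
        exact ⟨p, sub_eq_zero.1 this⟩
      · obtain ⟨q, hq⟩ := ih (m - 1) (by omega) z' ((mem_L_nsmul hK hD).2
          ⟨fun Q hQ => (hz'T Q hQ).trans_eq (by push_cast [Nat.cast_sub hm]; rfl), hz'T'⟩)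
        refine ⟨fun i => p i + q i, ?_⟩
        simp only [map_add, add_mul, Finset.sum_add_distrib, ← hq, hz', add_sub_cancel]

end Groth.Agent.FunFldLib.Fibre
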