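import Groth.Agent.FunFldLib.Fibre.Basic
import Groth.Agent.FunFldLib.Hasse.Flag
import Mathlib.RingTheory.Trace.Basic
import Mathlib.FieldTheory.SeparableDegree

/-! The integral closure and the inverse different at the zero fibre. -/

set_option autoImplicit false

open WithZero Polynomial
open LocRes (hasseD IsHasseFamily)

namespace Groth.Agent.FunFldLib.Fibre

open FunFld Groth.Agent.FunFldLib

variable {k K : Type*} [Field k] [Field K] [Algebra k K]

local notation "Fw" w => IntermediateField.adjoin k ({w} : Set K)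

variable {w : K}

theorem exists_scale (hw : Transcendental k w) (a : Fw w) : ∃ N : ℕ, Int k w (w ^ N * (a : K)) := by
  rcases eq_or_ne (a : K) 0 with h | h
  · exact ⟨0, by rw [h, mul_zero]; exact Int.zero⟩
  obtain ⟨m, hm⟩ := v_mem hw a.2 h
  refine ⟨(-m).toNat, fun Q hQ => ?_⟩
  rw [map_mul, map_pow, v_w hQ, hm Q hQ, ← exp_nsmul, ← exp_add, ← exp_zero, exp_le_exp, nsmul_eq_mul]
  have := Int.self_le_toNat (-m)
  have h2 : 0 ≤ (((-m).toNat : ℤ) + m) * Q.ord w := mul_nonneg (by omega) hQ.le
  rw [add_mul] at h2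
  linarith

variable [IsAlgClosed k] (hK : IsFunctionField k K) (hw : Transcendental k w)

include hw hK

omit [IsAlgClosed k] in
theorem exists_zero_place : ∃ Q : Place k K, 0 < Q.ord w := by
  obtain ⟨Q, hQ⟩ := exists_pole' hK.1 (transcendental_inv hK.1 hw)
  exact ⟨Q, by rw [ord_inv] at hQ; omega⟩

omit [IsAlgClosed k] in
/-- scaling -/
theorem int_coeff {n : ℕ} (u : Fin n → K) (hu : ∀ i, Int k w (u i))
    (hres : ∀ c : Fin n → k, c ≠ 0 →
      ∃ Q : Place k K, 0 < Q.ord w ∧ exp (-Q.ord w) < Q.1 (∑ i, algebraMap k K (c i) * u i))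
    (a : Fin n → Fw w) (hz : Int k w (∑ i, (a i : K) * u i)) : ∀ i, Int k w (a i : K) := by
  classical
  by_contra hcon
  have hex : ∃ N : ℕ, ∀ i, Int k w (w ^ N * (a i : K)) := by
    choose N hN using fun i => exists_scale hw (a i)
    refine ⟨∑ i, N i, fun i => ?_⟩
    have e : (∑ j, N j) = (∑ j ∈ Finset.univ.erase i, N j) + N i := by
      rw [add_comm, Finset.add_sum_erase _ _ (Finset.mem_univ i)]
    rw [e, pow_add, mul_assoc]
    exact (Int.self.pow _).mul (hN i)
  set N := Nat.find hex
  have hN := Nat.find_spec hex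
  have hN0 : 0 < N := Nat.pos_of_ne_zero fun h => hcon fun i => by simpa [N, h] using hN i
  have hne := exists_zero_place hK hw
  choose c g hgF hgi hc using fun i => int_split hw hne
    (mul_mem (pow_mem (IntermediateField.mem_adjoin_simple_self k w) N) (a i).2) (hN i)
  have hc0 : c ≠ 0 := by
    intro h
    refine Nat.find_min hex (show N - 1 < N by omega) fun i => ?_
    have h1 := hc i
    rw [h, Pi.zero_apply, map_zero, zero_add, show w ^ N = w * w ^ (N - 1) by
      rw [← pow_succ', Nat.sub_add_cancel hN0], mul_assoc] at h1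
    have hw0 : w ≠ 0 := fun h => hw (h ▸ isAlgebraic_zero)
    rw [mul_left_cancel₀ hw0 h1]
    exact hgi i
  obtain ⟨Q, hQ, hlt⟩ := hres c hc0
  refine hlt.not_ge ?_
  have e : ∑ i, algebraMap k K (c i) * u i = w ^ N * ∑ i, (a i : K) * u i - w * ∑ i, g i * u i := by
    rw [Finset.mul_sum, Finset.mul_sum, ← Finset.sum_sub_distrib]
    refine Finset.sum_congr rfl fun i _ => ?_
    rw [← mul_assoc, hc i]; ring
  rw [e]
  refine (Q.1.map_sub _ _).trans (max_le ?_ ?_) <;> rw [map_mul]
  · refine (mul_le_mul' ?_ (hz Q hQ)).trans_eq (mul_one _)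
    rw [map_pow, v_w hQ, ← exp_nsmul, exp_le_exp, nsmul_eq_mul]
    have := mul_le_mul_of_nonneg_right (show (1 : ℤ) ≤ N by exact_mod_cast hN0) hQ.le
    linarith
  · exact (mul_le_mul' (v_w hQ).le (Int.sum _ _ (fun i _ => (hgi i).mul (hu i)) Q hQ)).trans_eq (mul_one _)

omit [IsAlgClosed k] in
theorem basis_of_res {n : ℕ} (u : Fin n → K) (hu : ∀ i, Int k w (u i))
    (hres : ∀ c : Fin n → k, c ≠ 0 →
      ∃ Q : Place k K, 0 < Q.ord w ∧ exp (-Q.ord w) < Q.1 (∑ i, algebraMap k K (c i) * u i))
    (hn : n = Module.finrank (Fw w) K) :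
    LinearIndependent (Fw w) u ∧
      ∀ z : K, Int k w z → ∃ a : Fin n → Fw w, (∀ i, Int k w (a i : K)) ∧ z = ∑ i, (a i : K) * u i := by
  classical
  have := finite_over hK.1 hw
  have hli : LinearIndependent (Fw w) u := by
    rw [Fintype.linearIndependent_iff]
    intro a ha i
    by_contra hi
    have hi' : (a i : K) ≠ 0 := fun h => hi (Subtype.ext h)
    obtain ⟨m, hm⟩ := v_mem hw (a i).2 hi'
    set W : Fw w := ⟨w, IntermediateField.mem_adjoin_simple_self k w⟩
    set M := m.toNat + 1
    have hsum : ∑ l, (((W ^ M)⁻¹ * a l : Fw w) : K) * u l = 0 := by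
      have := congrArg ((((W ^ M)⁻¹ : Fw w) : K) * ·) ha
      simp only [mul_zero, Finset.mul_sum] at this
      rw [← this]
      exact Finset.sum_congr rfl fun l _ => by
        rw [IntermediateField.coe_mul, mul_assoc]; rfl
    have hint := int_coeff hK hw u hu hres (fun l => (W ^ M)⁻¹ * a l) (by rw [hsum]; exact Int.zero) i
    obtain ⟨Q, hQ⟩ := exists_zero_place hK hw
    have h := hint Q hQ
    simp only [IntermediateField.coe_mul, IntermediateField.coe_inv, IntermediateField.coe_pow, W,
      map_mul, map_inv₀, map_pow, v_w hQ, hm Q hQ, ← exp_nsmul, ← exp_neg, ← exp_add, ← exp_zero,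
      exp_le_exp, nsmul_eq_mul] at h
    have h1 := Int.self_le_toNat m
    have h2 : 0 < ((M : ℤ) - m) * Q.ord w := mul_pos (by omega) hQ
    rw [sub_mul] at h2
    linarith
  refine ⟨hli, fun z hz => ?_⟩
  have hsp : Submodule.span (Fw w) (Set.range u) = ⊤ :=
    hli.span_eq_top_of_card_eq_finrank' (by rw [Fintype.card_fin, hn])
  obtain ⟨a, ha⟩ := (Submodule.mem_span_range_iff_exists_fun _).1 (hsp.symm ▸ Submodule.mem_top : z ∈ Submodule.span (Fw w) (Set.range u))
  have e : z = ∑ i, (a i : K) * u i := ha.symm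
  exact ⟨a, int_coeff hK hw u hu hres a (e ▸ hz), e⟩

theorem sum_ord : ∃ S : Finset (Place k K), (∀ Q, Q ∈ S ↔ 0 < Q.ord w) ∧
    ∑ Q ∈ S, Q.ord w = (Module.finrank (Fw w) K : ℤ) := by
  classical
  refine ⟨(FunFld.div k w ⊔ 0).support, fun Q => ?_, ?_⟩
  · simp [div_apply hK.1]
  · rw [show (Module.finrank (Fw w) K : ℤ) = (degX k w : ℤ) from rfl, ← deg_zeros_eq hK.1 hw,
      FunFld.Divisor.deg, Finsupp.sum]
    refine Finset.sum_congr rfl fun Q hQ => ?_
    have hQ' : 0 < Q.ord w := by simpa [div_apply hK.1] using hQ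
    rw [deg_eq_one hK Q, Nat.cast_one, mul_one, Finsupp.sup_apply, div_apply hK.1, Finsupp.coe_zero,
      Pi.zero_apply, sup_eq_left.2 hQ'.le]

/-- regularity with respect to the inverse different at the zero fibre -/
def Reg (k : Type*) {K : Type*} [Field k] [Field K] [Algebra k K] (w z : K) : Prop :=
  ∀ Q : Place k K, 0 < Q.ord w → ∀ t : K, Q.1 t = exp (-1) → ∀ Ht : K →ₐ[k] PowerSeries K,
    IsHasseFamily t Ht → Q.1 (z * hasseD Ht 1 w) ≤ 1

variable {s : K} {H : K →ₐ[k] PowerSeries K} (hH : IsHasseFamily s H) (hsw : hasseD H 1 w ≠ 0)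
include hH

omit hw in
theorem v_deriv_indep (Q : Place k K) {t t' : K} (ht : Q.1 t = exp (-1)) (ht' : Q.1 t' = exp (-1))
    {Ht Ht' : K →ₐ[k] PowerSeries K} (hHt : IsHasseFamily t Ht) (hHt' : IsHasseFamily t' Ht') (z : K) :
    Q.1 (hasseD Ht 1 z) = Q.1 (hasseD Ht' 1 z) := by
  obtain ⟨ρ, -, -, h1, h2, hc⟩ := change_var hK hHt' hHt
  have ha : Q.1 (hasseD Ht' 1 t) ≤ 1 := hD_int hK Q hHt' ht' (by rw [ht, ← exp_zero, exp_le_exp]; omega) 1
  have hb : Q.1 (PowerSeries.coeff 1 ρ) ≤ 1 := by
    rw [← h2]; exact hD_int hK Q hHt ht (by rw [ht', ← exp_zero, exp_le_exp]; omega) 1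
  have hone : Q.1 (PowerSeries.coeff 1 ρ) = 1 := by
    refine le_antisymm hb ?_
    have h := congrArg Q.1 h1
    rw [map_mul, map_one] at h
    calc (1 : WithZero (Multiplicative ℤ)) = _ := h.symm
      _ ≤ Q.1 (PowerSeries.coeff 1 ρ) * 1 := mul_le_mul' le_rfl ha
      _ = _ := mul_one _
  rw [hc z 1, Finset.sum_range_succ, Finset.sum_range_one, pow_zero, PowerSeries.coeff_one, if_neg one_ne_zero,
    mul_zero, zero_add, pow_one, map_mul, hone, mul_one]

include hsw

/-- an element `y` describing the fibre -/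
theorem exists_local :
    ∃ (y d : K) (n : ℕ), n = Module.finrank (Fw w) K ∧ 0 < n ∧ Int k w y ∧ d ≠ 0 ∧
      Algebra.IsSeparable (Fw w) K ∧
      (∀ z : K, Int k w z → ∃ a : Fin n → Fw w, (∀ i, Int k w (a i : K)) ∧ z = ∑ i, (a i : K) * y ^ (i : ℕ)) ∧
      (∀ m : ℕ, m < n → Algebra.trace (Fw w) K (y ^ m / d) = if m + 1 = n then 1 else 0) ∧
      ∀ Q : Place k K, 0 < Q.ord w → ∀ t : K, Q.1 t = exp (-1) → ∀ Ht : K →ₐ[k] PowerSeries K,
        IsHasseFamily t Ht → Q.1 d = Q.1 (hasseD Ht 1 w) := by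
  classical
  have := finite_over hK.1 hw
  obtain ⟨S, hS, hsum⟩ := sum_ord hK hw
  set n := Module.finrank (Fw w) K with hn
  obtain ⟨c, hc⟩ : ∃ c : Place k K → k, Set.InjOn c S := by
    refine ⟨fun Q => if h : Q ∈ S then (Infinite.natEmbedding k) (S.equivFin ⟨Q, h⟩).1 else 0, fun a ha b hb h => ?_⟩
    have ha' : a ∈ S := ha
    have hb' : b ∈ S := hb
    simp only [dif_pos ha', dif_pos hb'] at h
    exact congrArg Subtype.val (S.equivFin.injective (Fin.ext ((Infinite.natEmbedding k).injective h)))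
  obtain ⟨y, hy⟩ := approx_eq S (fun Q => algebraMap k K (c Q)) (fun _ => -1)
  have hyv : ∀ Q : Place k K, 0 < Q.ord w → Q.1 (y - algebraMap k K (c Q)) = exp (-1) := fun Q hQ => hy Q ((hS Q).2 hQ)
  have hyi : Int k w y := fun Q hQ => by
    rw [show y = (y - algebraMap k K (c Q)) + algebraMap k K (c Q) by ring]
    exact (Q.1.map_add _ _).trans (max_le (by rw [hyv Q hQ, ← exp_zero, exp_le_exp]; omega) (Q.2.1 _))
  set e : Place k K → ℕ := fun Q => (Q.ord w).toNat
  have he : ∀ Q : Place k K, 0 < Q.ord w → (e Q : ℤ) = Q.ord w := fun Q hQ => Int.toNat_of_nonneg hQ.le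
  have hne' : ∀ Q Q' : Place k K, 0 < Q.ord w → 0 < Q'.ord w → Q' ≠ Q → Q.1 (y - algebraMap k K (c Q')) = 1 := by
    intro Q Q' hQ hQ' hne
    have hcc : c Q - c Q' ≠ 0 := sub_ne_zero.2 fun h => hne (hc ((hS Q').2 hQ') ((hS Q).2 hQ) h.symm)
    rw [show y - algebraMap k K (c Q') = (y - algebraMap k K (c Q)) + algebraMap k K (c Q - c Q') by
      rw [map_sub]; ring]
    rw [Valuation.map_add_eq_of_lt_right _ ?_, v_algebraMap Q hcc]
    rw [hyv Q hQ, v_algebraMap Q hcc, ← exp_zero, exp_lt_exp]
    omega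
  set P0 : k[X] := ∏ Q ∈ S, (X - C (c Q)) ^ e Q with hP0
  have hP0m : P0.Monic := monic_prod_of_monic _ _ fun Q _ => (monic_X_sub_C _).pow _
  have hP0d : P0.natDegree = n := by
    rw [hP0, natDegree_prod_of_monic _ _ fun Q _ => (monic_X_sub_C _).pow _]
    simp only [natDegree_pow, natDegree_X_sub_C, mul_one]
    have h : ((∑ Q ∈ S, e Q : ℕ) : ℤ) = n := by
      rw [Nat.cast_sum, Finset.sum_congr rfl fun Q hQ => he Q ((hS Q).1 hQ), hsum]
    exact_mod_cast h
  have hP0v : ∀ Q : Place k K, 0 < Q.ord w → Q.1 (aeval y P0) = exp (-Q.ord w) := by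
    intro Q hQ
    rw [hP0, map_prod, map_prod, Finset.prod_eq_single Q]
    · rw [map_pow, map_pow, map_sub, aeval_X, aeval_C, hyv Q hQ, ← exp_nsmul, nsmul_eq_mul, he Q hQ]
      ring_nf
    · intro Q' hQ' hne
      rw [map_pow, map_pow, map_sub, aeval_X, aeval_C, hne' Q Q' hQ ((hS Q').1 hQ') hne, one_pow]
    · exact fun h => absurd ((hS Q).2 hQ) h
  have hdvd : ∀ p : k[X], (∀ Q : Place k K, 0 < Q.ord w → Q.1 (aeval y p) ≤ exp (-Q.ord w)) → P0 ∣ p := by
    intro p hp
    rcases eq_or_ne p 0 with rfl | hp0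
    · exact dvd_zero _
    refine Finset.prod_dvd_of_coprime (fun a ha b hb hab =>
      ((Polynomial.pairwise_coprime_X_sub_C Function.injective_id) fun h => hab (hc ha hb h)).pow) fun Q hQ => ?_
    have hQ' := (hS Q).1 hQ
    obtain ⟨r, hr, hr2⟩ := Polynomial.exists_eq_pow_rootMultiplicity_mul_and_not_dvd p hp0 (c Q)
    refine (pow_dvd_pow _ ?_).trans (pow_rootMultiplicity_dvd p (c Q))
    have hord : 0 < Q.ord (y - algebraMap k K (c Q)) := by
      rw [Place.ord, hyv Q hQ', log_exp]; omega
    have hru : Q.1 (aeval y r) = 1 := by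
      have h := v_unit (w := y - algebraMap k K (c Q)) (p := r.comp (X + C (c Q))) ?_ hord
      · simpa [aeval_comp] using h
      · simpa [eval_comp, dvd_iff_isRoot] using hr2
    have h := hp Q hQ'
    rw [hr, map_mul, map_mul, map_pow, map_pow, map_sub, aeval_X, aeval_C, hyv Q hQ', hru, mul_one,
      ← exp_nsmul, exp_le_exp, nsmul_eq_mul] at h
    have := he Q hQ'
    omega
  have hres : ∀ a : Fin n → k, a ≠ 0 →
      ∃ Q : Place k K, 0 < Q.ord w ∧ exp (-Q.ord w) < Q.1 (∑ i, algebraMap k K (a i) * y ^ (i : ℕ)) := by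
    intro a ha
    by_contra hcon
    push Not at hcon
    set p : k[X] := ∑ i, C (a i) * X ^ (i : ℕ) with hp
    have hpy : aeval y p = ∑ i, algebraMap k K (a i) * y ^ (i : ℕ) := by simp [hp]
    have hp0 : p ≠ 0 := by
      intro h
      apply ha
      funext i
      have h1 := congrArg (fun q => q.coeff (i : ℕ)) h
      simp only [hp, finsetSum_coeff, coeff_C_mul_X_pow, coeff_zero] at h1
      rw [Finset.sum_eq_single i (fun b _ hb => if_neg fun h => hb (Fin.ext h.symm)) (by simp), if_pos rfl] at h1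
      exact h1
    have h1 := natDegree_le_of_dvd (hdvd p fun Q hQ => hpy ▸ hcon Q hQ) hp0
    rw [hP0d] at h1
    have hn0 : 0 < n := Module.finrank_pos
    have h2 : p.natDegree ≤ n - 1 := natDegree_sum_le_of_forall_le _ _ fun i _ =>
      (natDegree_C_mul_X_pow_le _ _).trans (by omega)
    omega
  have hyn : ∀ i : Fin n, Int k w (y ^ (i : ℕ)) := fun i => hyi.pow _
  obtain ⟨hli, hcoords⟩ := basis_of_res hK hw _ hyn hres hn
  obtain ⟨a, hai, han⟩ := hcoords _ (hyi.pow n)
  have hne := exists_zero_place hK hw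
  choose cc g hgF hgi hcg using fun i => int_split hw hne (a i).2 (hai i)
  -- the minimal polynomial
  set mp : (Fw w)[X] := X ^ n - ∑ i : Fin n, C (a i) * X ^ (i : ℕ) with hmp
  have hdlt : (∑ i : Fin n, C (a i) * X ^ (i : ℕ)).degree < (n : WithBot ℕ) :=
    lt_of_le_of_lt (degree_sum_le _ _) ((Finset.sup_lt_iff (WithBot.bot_lt_coe n)).2 fun i _ =>
      (degree_C_mul_X_pow_le _ _).trans_lt (WithBot.coe_lt_coe.2 i.2))
  have hmpm : mp.Monic := monic_X_pow_sub hdlt
  have hmpd : mp.degree = n := by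
    rw [hmp, degree_sub_eq_left_of_degree_lt (by rwa [degree_X_pow]), degree_X_pow]
  have hmpy : aeval y mp = 0 := by
    rw [hmp, map_sub, map_pow, aeval_X, map_sum, han, sub_eq_zero]
    refine Finset.sum_congr rfl fun i _ => ?_
    rw [map_mul, map_pow, aeval_X, aeval_C]; rfl
  have hmin : minpoly (Fw w) y = mp := by
    refine (minpoly.unique' (Fw w) y hmpm hmpy fun q hq => ?_).symm
    by_contra hcon
    simp only [not_or] at hcon
    obtain ⟨hq0, hq1⟩ := hcon
    rw [hmpd] at hq
    have hqd : q.natDegree < n := (natDegree_lt_iff_degree_lt hq0).2 hq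
    rw [ne_eq, not_not] at hq1
    rw [aeval_eq_sum_range' hqd, ← Fin.sum_univ_eq_sum_range (fun i => q.coeff i • y ^ i)] at hq1
    apply hq0
    ext i
    rw [coeff_zero]
    rcases lt_or_ge i n with h | h
    · exact congrArg _ (Fintype.linearIndependent_iff.1 hli (fun j => q.coeff j) hq1 ⟨i, h⟩)
    · rw [coeff_eq_zero_of_natDegree_lt (hqd.trans_le h), ZeroMemClass.coe_zero]
  set d := aeval y (derivative mp) with hd
  have hdY : d = n * y ^ (n - 1) - ∑ i : Fin n, (a i : K) * ((i : ℕ) * y ^ ((i : ℕ) - 1)) := by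
    rw [hd, hmp, derivative_sub, derivative_X_pow, derivative_sum, map_sub, map_sum, map_mul, aeval_C, map_pow, aeval_X,
      map_natCast]
    congr 1
    refine Finset.sum_congr rfl fun i _ => ?_
    rw [derivative_C_mul_X_pow, map_mul, aeval_C, map_pow, aeval_X, map_mul, map_natCast, mul_assoc]
    rfl
  set G := ∑ i : Fin n, g i * y ^ (i : ℕ)
  have hG : ∀ Q : Place k K, 0 < Q.ord w → Q.1 G = 1 := by
    intro Q hQ
    set p : k[X] := X ^ n - ∑ i : Fin n, C (cc i) * X ^ (i : ℕ) with hp
    have hpy : aeval y p = w * G := by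
      simp only [hp, map_sub, map_pow, aeval_X, map_sum, map_mul, aeval_C, han, hcg, add_mul,
        Finset.sum_add_distrib, add_sub_cancel_left, G, Finset.mul_sum, mul_assoc]
    have hdlt' : (∑ i : Fin n, C (cc i) * X ^ (i : ℕ)).degree < (n : WithBot ℕ) :=
      lt_of_le_of_lt (degree_sum_le _ _) ((Finset.sup_lt_iff (WithBot.bot_lt_coe n)).2 fun i _ =>
        (degree_C_mul_X_pow_le _ _).trans_lt (WithBot.coe_lt_coe.2 i.2))
    have hpm : p.Monic := monic_X_pow_sub hdlt'
    have hpd : p.natDegree = n := natDegree_eq_of_degree_eq_some (by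
      rw [hp, degree_sub_eq_left_of_degree_lt (by rwa [degree_X_pow]), degree_X_pow])
    have hpP : P0 = p := eq_of_monic_of_dvd_of_natDegree_le hP0m hpm (hdvd p fun R hR => by
      rw [hpy, map_mul, v_w hR]
      exact (mul_le_mul' le_rfl (Int.sum _ _ (fun i _ => (hgi i).mul (hyn i)) R hR)).trans_eq (mul_one _))
      (by rw [hpd, hP0d]) |>.symm
    have h := hP0v Q hQ
    rw [hpP, hpy, map_mul, v_w hQ] at h
    exact mul_left_cancel₀ exp_ne_zero (h.trans (mul_one _).symm)
  have hdv : ∀ Q : Place k K, 0 < Q.ord w → ∀ t : K, Q.1 t = exp (-1) → ∀ Ht : K →ₐ[k] PowerSeries K,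
      IsHasseFamily t Ht → Q.1 d = Q.1 (hasseD Ht 1 w) := by
    intro Q hQ t ht Ht hHt
    set u := y - algebraMap k K (c Q) with hu
    obtain ⟨ρ, -, -, Hu, hHu, -⟩ := exists_family hK Q (hyv Q hQ) hH
    rw [v_deriv_indep hK hH Q ht (hyv Q hQ) hHt hHu]
    set δ := Hasse.deriv hHu with hδ
    have hδy : δ y = 1 := by
      have h : δ u = 1 := by
        rw [hδ, Hasse.deriv_apply, LocRes.hasseD_apply, hHu.1, map_add, PowerSeries.coeff_C, PowerSeries.coeff_one_X]
        simp
      rwa [hu, map_sub, δ.map_algebraMap, sub_zero] at h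
    choose hh hhi hhd using fun i => int_deriv hw hne (hgF i) (hgi i)
    have key : d = δ w * (G + w * ∑ i : Fin n, hh i * y ^ (i : ℕ)) := by
      have h := congrArg δ han
      rw [δ.leibniz_pow, hδy, map_sum] at h
      simp only [nsmul_eq_mul, smul_eq_mul, mul_one] at h
      rw [hdY, h, ← Finset.sum_sub_distrib]
      simp only [G, Finset.mul_sum, mul_add]
      rw [← Finset.sum_add_distrib]
      refine Finset.sum_congr rfl fun i _ => ?_
      rw [δ.leibniz, δ.leibniz_pow, hδy, hcg i, map_add, δ.map_algebraMap, δ.leibniz, hhd i δ]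
      simp only [nsmul_eq_mul, smul_eq_mul]
      ring
    have hlt : Q.1 (w * ∑ i : Fin n, hh i * y ^ (i : ℕ)) < Q.1 G := by
      rw [hG Q hQ, map_mul]
      exact (mul_le_mul' le_rfl (Int.sum _ _ (fun i _ => (hhi i).mul (hyn i)) Q hQ)).trans_lt
        (by rw [mul_one]; exact v_w_lt hQ)
    rw [key, map_mul, Valuation.map_add_eq_of_lt_left _ hlt, hG Q hQ, mul_one]
    rfl
  have hd0 : d ≠ 0 := by
    obtain ⟨Q, hQ⟩ := hne
    obtain ⟨t, -, ht⟩ := exists_exp (P := Q) (-1)
    obtain ⟨ρ, -, hρ, Ht, hHt, hcoef⟩ := exists_family hK Q ht hH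
    intro h0
    have h := hdv Q hQ t ht Ht hHt
    rw [h0, map_zero, eq_comm, map_eq_zero, hcoef, Finset.sum_range_succ, Finset.sum_range_one, pow_zero,
      PowerSeries.coeff_one, if_neg one_ne_zero, mul_zero, zero_add, pow_one] at h
    exact mul_ne_zero hsw (left_ne_zero_of_mul_eq_one hρ) h
  have hint : IsIntegral (Fw w) y := Algebra.IsIntegral.isIntegral y
  have hn0 : 0 < n := Module.finrank_pos
  have hadj : IntermediateField.adjoin (Fw w) ({y} : Set K) = ⊤ := by
    refine IntermediateField.eq_of_le_of_finrank_eq le_top ?_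
    rw [IntermediateField.adjoin.finrank hint, hmin, natDegree_eq_of_degree_eq_some hmpd,
      IntermediateField.finrank_top']
  have hsep : Algebra.IsSeparable (Fw w) K := by
    have hys : IsSeparable (Fw w) y := by
      rw [IsSeparable]
      refine (separable_iff_derivative_ne_zero (minpoly.irreducible hint)).2 fun h => hd0 ?_
      rw [hd, ← hmin, h, map_zero]
    have h := (IntermediateField.isSeparable_adjoin_simple_iff_isSeparable _ _).2 hys
    rw [hadj] at h
    exact Algebra.IsSeparable.of_algHom (Fw w) (⊤ : IntermediateField (Fw w) K)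
      IntermediateField.topEquiv.symm.toAlgHom
  refine ⟨y, d, n, rfl, hn0, hyi, hd0, hsep, hcoords, fun m hm => ?_, hdv⟩
  have hadj' : Algebra.adjoin (Fw w) ({y} : Set K) = ⊤ := by
    have := congrArg IntermediateField.toSubalgebra hadj
    rwa [IntermediateField.adjoin_simple_toSubalgebra_of_isAlgebraic hint.isAlgebraic,
      IntermediateField.top_toSubalgebra] at this
  have h := congrArg (fun q : (AlgebraicClosure (Fw w))[X] => q.coeff (n - 1))
    (sum_smul_minpolyDiv_eq_X_pow (AlgebraicClosure (Fw w)) (x := y) hadj' (r := m) hm)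
  have hlc : (minpolyDiv (Fw w) y).coeff (n - 1) = 1 := by
    have h1 := (minpolyDiv_monic hint).leadingCoeff
    rwa [leadingCoeff, natDegree_minpolyDiv, hmin, natDegree_eq_of_degree_eq_some hmpd] at h1
  simp only [finsetSum_coeff, coeff_map, coeff_smul, smul_eq_mul, hlc, mul_one, coeff_X_pow] at h
  apply (algebraMap (Fw w) (AlgebraicClosure (Fw w))).injective
  rw [trace_eq_sum_embeddings (E := AlgebraicClosure (Fw w))]
  refine Eq.trans ?_ (h.trans ?_)
  · rw [hd, hmin]; rfl
  · by_cases hm1 : m + 1 = n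
    · rw [if_pos (by omega), if_pos hm1, map_one]
    · rw [if_neg (by omega), if_neg hm1, map_zero]

/-- elements pairing integrally with the integral elements are the regular ones -/
theorem trace_dual (z : K) :
    (∀ u : K, Int k w u → Int k w ((Algebra.trace (Fw w) K (z * u) : Fw w) : K)) ↔ Reg k w z := by
  classical
  obtain ⟨y, d, n, hn, hn0, hyi, hd0, hsep, hcoords, htr, hdv⟩ := exists_local hK hw hH hsw
  have := finite_over hK.1 hw
  have htrace : ∀ b : Fin n → Fw w, Algebra.trace (Fw w) K ((∑ i, (b i : K) * y ^ (i : ℕ)) / d) = b ⟨n - 1, by omega⟩ := by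
    intro b
    rw [Finset.sum_div, map_sum, Finset.sum_eq_single (⟨n - 1, by omega⟩ : Fin n)]
    · rw [mul_div_assoc, ← smul_eq_mul, ← IntermediateField.smul_def, map_smul, htr _ (show n - 1 < n by omega),
        if_pos (show n - 1 + 1 = n by omega), smul_eq_mul, mul_one]
    · intro i _ hi
      rw [mul_div_assoc, ← smul_eq_mul, ← IntermediateField.smul_def, map_smul, htr _ i.2,
        if_neg fun h => hi (Fin.ext (show (i : ℕ) = n - 1 by omega)), smul_zero]
    · simp
  have hreg : Reg k w z ↔ Int k w (z * d) := by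
    constructor
    · intro h Q hQ
      obtain ⟨t, -, ht⟩ := exists_exp (P := Q) (-1)
      obtain ⟨ρ, -, -, Ht, hHt, -⟩ := exists_family hK Q ht hH
      rw [map_mul, hdv Q hQ t ht Ht hHt, ← map_mul]
      exact h Q hQ t ht Ht hHt
    · intro h Q hQ t ht Ht hHt
      rw [map_mul, ← hdv Q hQ t ht Ht hHt, ← map_mul]
      exact h Q hQ
  rw [hreg]
  constructor
  · intro h
    have : FiniteDimensional (Fw w) K := finite_over hK.1 hw
    obtain ⟨hli, hco⟩ : LinearIndependent (Fw w) (fun i : Fin n => y ^ (i : ℕ)) ∧ True := by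
      refine ⟨?_, trivial⟩
      rw [Fintype.linearIndependent_iff]
      intro b hb
      have key : ∀ j, ∀ i : Fin n, (i : ℕ) + j = n - 1 → b i = 0 := by
        intro j
        induction j using Nat.strong_induction_on with
        | _ j ih =>
          intro i hij
          have h1 : ∑ l, (b l : K) * (y ^ (l : ℕ) * y ^ j / d) = 0 := by
            have := congrArg (fun x => x * (y ^ j / d)) hb
            simp only [zero_mul, Finset.sum_mul] at this
            rw [← this]
            exact Finset.sum_congr rfl fun l _ => by rw [IntermediateField.smul_def, smul_eq_mul]; ring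
          have h2 := congrArg (Algebra.trace (Fw w) K) h1
          rw [map_zero, map_sum, Finset.sum_eq_single i] at h2
          · rwa [← smul_eq_mul, ← IntermediateField.smul_def, map_smul, ← pow_add, htr _ (by omega),
              if_pos (by omega), smul_eq_mul, mul_one] at h2
          · intro l _ hl
            rw [← smul_eq_mul, ← IntermediateField.smul_def, map_smul]
            rcases lt_trichotomy ((l : ℕ) + j) (n - 1) with hlt | heq | hgt
            · rw [← pow_add, htr _ (by omega), if_neg (by omega), smul_zero]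
            · exact absurd (Fin.ext (by omega)) hl
            · rw [ih (n - 1 - l) (by omega) l (by omega), zero_smul]
          · simp
      exact fun i => key (n - 1 - i) i (by omega)
    obtain ⟨a, ha⟩ := (Submodule.mem_span_range_iff_exists_fun _).1
      ((hli.span_eq_top_of_card_eq_finrank' (by rw [Fintype.card_fin, hn])).symm ▸ Submodule.mem_top :
        z * d ∈ Submodule.span (Fw w) (Set.range fun i : Fin n => y ^ (i : ℕ)))
    have ha' : z * d = ∑ i, (a i : K) * y ^ (i : ℕ) := ha.symm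
    have key : ∀ j, ∀ i : Fin n, (i : ℕ) + j = n - 1 → Int k w (a i : K) := by
      intro j
      induction j using Nat.strong_induction_on with
      | _ j ih =>
        intro i hij
        have h1 : Int k w ((Algebra.trace (Fw w) K (z * y ^ j) : Fw w) : K) := h _ (hyi.pow j)
        have e : z * y ^ j = ∑ l, (a l : K) * (y ^ ((l : ℕ) + j) / d) := by
          have hz : z = (z * d) / d := (mul_div_cancel_right₀ z hd0).symm
          rw [hz, ha', Finset.sum_div, Finset.sum_mul]
          exact Finset.sum_congr rfl fun l _ => by rw [pow_add]; ring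
        rw [e, map_sum, ← Finset.add_sum_erase _ _ (Finset.mem_univ i)] at h1
        simp only [← smul_eq_mul, ← IntermediateField.smul_def, map_smul] at h1
        rw [htr _ (by omega), if_pos (by omega), smul_eq_mul, mul_one, IntermediateField.coe_add] at h1
        have h2 : Int k w ((∑ l ∈ Finset.univ.erase i,
            a l • Algebra.trace (Fw w) K (y ^ ((l : ℕ) + j) / d) : Fw w) : K) := by
          rw [AddSubmonoidClass.coe_finsetSum]
          refine Int.sum _ _ fun l hl => ?_
          rcases lt_trichotomy ((l : ℕ) + j) (n - 1) with hlt | heq | hgt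
          · rw [htr _ (by omega), if_neg (by omega), smul_zero]
            exact Int.zero
          · exact absurd (Fin.ext (by omega)) (Finset.ne_of_mem_erase hl)
          · rw [smul_eq_mul, IntermediateField.coe_mul]
            refine (ih (n - 1 - l) (by omega) l (by omega)).mul ?_
            obtain ⟨b, hb, he⟩ := hcoords _ (hyi.pow ((l : ℕ) + j))
            rw [he, htrace]
            exact hb _
        have := h1.sub h2
        rwa [add_sub_cancel_right] at this
    intro Q hQ
    rw [ha']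
    exact Int.sum Finset.univ (fun i : Fin n => (a i : K) * y ^ (i : ℕ))
      (fun i _ => (key (n - 1 - i) i (by omega)).mul (hyi.pow _)) Q hQ
  · intro h u hu
    obtain ⟨b, hb, he⟩ := hcoords _ (h.mul hu)
    rw [show z * u = (z * d * u) / d by field_simp, he, htrace]
    exact hb _

end Groth.Agent.FunFldLib.Fibre
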