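import Groth.Agent.FunFldLib.Fibre.Degree
import Groth.Agent.FunFldLib.Hasse.Twist

/-! The degree of the Weierstrass divisor. -/

set_option autoImplicit false

open LocRes (hasseD IsHasseFamily IsExpansionAt)

namespace Groth.Agent.FunFldLib

open FunFld

variable {k K : Type*} [Field k] [IsAlgClosed k] [Field K] [Algebra k K]

theorem deg_wDiv (hK : IsFunctionField k K) {n : ℕ} {φ : Fin (n + 1) → K} (hφ : LinearIndependent k φ)
    (τ : K →ₐ[k] K) {s : K} {H : K →ₐ[k] PowerSeries K} (hH : IsHasseFamily s H)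
    (Φ : Place k K → (K →ₐ[k] LaurentSeries k)) (hΦ : ∀ P : Place k K, IsExpansionAt P.1 (Φ P))
    (J : Fin n → ℕ) :
    (wDiv τ H Φ s φ J).deg =
      ((Module.finrank τ.fieldRange K : ℤ) + n) * (mapDiv k φ).deg +
        (2 * (genus k K : ℤ) - 2) * ∑ l, (J l : ℤ) := by
  rw [wDiv, deg_add, deg_add, deg_add, deg_div hK.1, deg_mapDiv_comp τ hK φ fun i => hφ.ne_zero i,
    Fibre.deg_zsmul, Fibre.deg_zsmul, Fibre.deg_diff hK hH Φ hΦ]
  ring

end Groth.Agent.FunFldLib
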